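import Cfsg.Agent.OPlusPres.Layer

/-!
# The Steinberg relations follow from the defining relations
-/

set_option autoImplicit false
set_option maxHeartbeats 800000
set_option linter.unusedSimpArgs false
set_option linter.unusedSectionVars false

open Matrix
open scoped MatrixGroups commutatorElement

namespace Cfsg.Agent.OPlusPres

open Chev.Ortho CurtisTitsD
open SLMult (tx)
open DMult (wS hS crt Tor)

universe u

variable {F : Type u} [Field F] [Fintype F] {n : ℕ}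

/-- The data satisfying the defining relations. -/
structure Dat (F : Type u) [Field F] [Fintype F] {n : ℕ} (I : Ix n) (H : Type u) [Group H] where
  /-- the projection -/
  σ : H →* OG F n
  /-- the linear part -/
  A : SpecialLinearGroup (Fin n) F →* H
  /-- the extra element -/
  g : H
  hA : ∀ x, σ (A x) = Lam I.three x
  hg : σ g = g0 I
  cube : g ^ 3 = 1
  conjM : ∀ m ∈ Msub I.a I.b, g * A m * g⁻¹ = A (PP I * m * (PP I)⁻¹)
  commM : ∀ m ∈ Msub I.a I.b, Commute (A m) (g * A (tx I.c I.a 1) * g⁻¹)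

/-- The weights of the linear part of the extra element. -/
def sgn (I : Ix n) (s : Fin n) : F := if s = I.b then -1 else 1

/-- The permutation of the linear part of the extra element. -/
def pr (I : Ix n) : Equiv.Perm (Fin n) := Equiv.swap I.c I.a

theorem mono_PP (I : Ix n) : Mono (PP I : SpecialLinearGroup (Fin n) F) (pr I) (sgn I) := by
  have h1 := I.hac; have h2 := I.hbc; have h3 := I.hab
  refine ⟨fun s => by unfold sgn; split_ifs <;> simp, fun s => funext fun r => ?_⟩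
  rw [PP]
  simp only [mulVec_mul', DMult.wS_mulVec h1.symm one_ne_zero, DMult.wS_mulVec h2.symm one_ne_zero]
  simp only [pr, sgn, Equiv.swap_apply_def, Pi.single_apply]
  by_cases s1 : s = I.a
  · subst s1
    by_cases r1 : r = I.c
    · subst r1; simp [h1, h1.symm, h2, h2.symm, h3, h3.symm]
    by_cases r2 : r = I.a
    · subst r2; simp [h1, h1.symm, h2, h2.symm, h3, h3.symm]
    simp [r1, r2, h1, h1.symm, h2, h2.symm, h3, h3.symm]
  by_cases s2 : s = I.b
  · subst s2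
    by_cases r1 : r = I.c
    · subst r1; simp [h1, h1.symm, h2, h2.symm, h3, h3.symm]
    by_cases r2 : r = I.a
    · subst r2; simp [h1, h1.symm, h2, h2.symm, h3, h3.symm]
    by_cases r3 : r = I.b
    · subst r3; simp [h1, h1.symm, h2, h2.symm, h3, h3.symm]
    simp [r1, r2, r3, h1, h1.symm, h2, h2.symm, h3, h3.symm]
  by_cases s3 : s = I.c
  · subst s3
    by_cases r1 : r = I.c
    · subst r1; simp [h1, h1.symm, h2, h2.symm, h3, h3.symm]
    by_cases r2 : r = I.a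
    · subst r2; simp [h1, h1.symm, h2, h2.symm, h3, h3.symm]
    simp [r1, r2, h1, h1.symm, h2, h2.symm, h3, h3.symm]
  by_cases r1 : r = I.c
  · subst r1; simp [s1, s2, s3, Ne.symm s1, Ne.symm s2, Ne.symm s3, h1, h1.symm, h2, h2.symm]
  by_cases r2 : r = I.a
  · subst r2; simp [s1, s2, s3, Ne.symm s1, Ne.symm s2, Ne.symm s3, h1, h1.symm, h3, h3.symm]
  by_cases r3 : r = I.b
  · subst r3; simp [s1, s2, s3, Ne.symm s1, Ne.symm s2, Ne.symm s3, h2, h2.symm, h3, h3.symm]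
  simp [r1, r2, r3, s1, s2, s3, Ne.symm s1, Ne.symm s2, Ne.symm s3]

theorem pr_a (I : Ix n) : pr I I.a = I.c := Equiv.swap_apply_right _ _

theorem pr_c (I : Ix n) : pr I I.c = I.a := Equiv.swap_apply_left _ _

theorem pr_fix (I : Ix n) {i : Fin n} (h1 : i ≠ I.a) (h2 : i ≠ I.c) : pr I i = i :=
  Equiv.swap_apply_of_ne_of_ne h2 h1

theorem mono_dg (u : Tor F n) : Mono (DMult.dg u) 1 (fun s => ((u : Fin n → Fˣ) s : F)) :=
  ⟨fun s => Units.ne_zero _, fun s => by
    show diagonal _ *ᵥ _ = _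
    rw [Matrix.diagonal_mulVec_single, mul_one]; rfl⟩

theorem iota_dg (u : Tor F n) : AutPSL.iotaSL (DMult.dg u) = DMult.dg u⁻¹ := by
  refine Subtype.ext ?_
  rw [AutPSL.iotaSL_coe, ← map_inv]
  exact Matrix.diagonal_transpose _

theorem iota_wS {i j : Fin n} (h : i ≠ j) :
    AutPSL.iotaSL (wS i j (1 : F)) = wS i j 1 := by
  calc AutPSL.iotaSL (wS i j (1 : F)) = wS j i (-1) := by
        rw [wS, wS, map_mul, map_mul, CurtisTitsA.iota_tx h, CurtisTitsA.iota_tx h.symm]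
        simp
    _ = _ := by rw [DMult.wS_swap h one_ne_zero, inv_one]

theorem tx_inv' {i j : Fin n} (h : i ≠ j) (t : F) : (tx i j t)⁻¹ = tx i j (-t) :=
  inv_eq_of_mul_eq_one_right (by rw [← SLMult.tx_add h, add_neg_cancel, SLMult.tx_zero])

theorem iota_PP (I : Ix n) : AutPSL.iotaSL (PP I : SpecialLinearGroup (Fin n) F) = PP I := by
  rw [PP, map_mul, map_mul, iota_wS I.hac.symm, iota_wS I.hbc.symm]

theorem mono_iota {g : SpecialLinearGroup (Fin n) F} {τ : Equiv.Perm (Fin n)} {w : Fin n → F}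
    (hg : Mono g τ w) : Mono (AutPSL.iotaSL g) τ fun s => (w s)⁻¹ := by
  refine ⟨fun s => inv_ne_zero (hg.1 s), fun s => ?_⟩
  have ht : g.1ᵀ *ᵥ Pi.single (τ s) 1 = Pi.single s (w s) := by
    funext r
    rw [Matrix.mulVec_single_one]
    show g.1 (τ s) r = _
    have h := congrFun (hg.2 r) (τ s)
    rw [Matrix.mulVec_single_one] at h
    refine (show g.1 (τ s) r = _ from h).trans ?_
    by_cases hr : r = s
    · subst hr; simp
    · rw [Pi.single_eq_of_ne hr, Pi.single_eq_of_ne (fun e => hr (τ.injective e).symm)]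
  have h1 : (AutPSL.iotaSL g).1 * g.1ᵀ = 1 := by
    rw [AutPSL.iotaSL_coe, ← Matrix.transpose_mul, ← Matrix.SpecialLinearGroup.coe_mul, mul_inv_cancel,
      Matrix.SpecialLinearGroup.coe_one, Matrix.transpose_one]
  have h2 : (AutPSL.iotaSL g).1 *ᵥ Pi.single s (w s) = Pi.single (τ s) 1 := by
    rw [← ht, Matrix.mulVec_mulVec, h1, Matrix.one_mulVec]
  rw [mulVec_single'] at h2
  calc (AutPSL.iotaSL g).1 *ᵥ Pi.single s 1
      = (w s)⁻¹ • (w s • ((AutPSL.iotaSL g).1 *ᵥ Pi.single s 1)) := by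
        rw [smul_smul, inv_mul_cancel₀ (hg.1 s), one_smul]
    _ = _ := by rw [h2, ← Pi.single_smul, smul_eq_mul, mul_one]

namespace Dat

variable {I : Ix n} {H : Type u} [Group H] (K : Dat F I H)

/-- Conjugation by the extra element. -/
def cj : H →* H := (MulAut.conj K.g).toMonoidHom

theorem cj_apply (x : H) : K.cj x = K.g * x * K.g⁻¹ := rfl

theorem cj_cube (x : H) : K.cj (K.cj (K.cj x)) = x := by
  have h : K.g * (K.g * K.g) = 1 := by rw [← pow_two, ← pow_succ', K.cube]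
  simp only [cj_apply]
  calc K.g * (K.g * (K.g * x * K.g⁻¹) * K.g⁻¹) * K.g⁻¹
      = K.g * (K.g * K.g) * x * (K.g * (K.g * K.g))⁻¹ := by group
    _ = x := by rw [h]; group

theorem conjX {i j : Fin n} (h : i ≠ j) (hiff : (i = I.a ∨ i = I.b) ↔ (j = I.a ∨ j = I.b)) (t : F) :
    K.cj (K.A (tx i j t)) = K.A (tx (pr I i) (pr I j) (sgn I i * t / sgn I j)) := by
  rw [cj_apply, K.conjM _ (tx_mem_Msub h hiff t), (mono_PP I).conj_tx h]

theorem conj_mem (m : SpecialLinearGroup (Fin n) F) (hm : m ∈ Msub I.a I.b) :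
    K.cj (K.A m) = K.A (PP I * m * (PP I)⁻¹) := K.conjM m hm

/-- The seed of the roots `ε_i + ε_j`. -/
def Z0 (t : F) : H := K.cj (K.A (tx I.c I.a t))

/-- The seed of the roots `-ε_i - ε_j`. -/
def N0 (t : F) : H := K.cj (K.A (tx I.a I.c (-t)))

theorem wS_mem {i j : Fin n} (h : i ≠ j) (hiff : (i = I.a ∨ i = I.b) ↔ (j = I.a ∨ j = I.b)) (t : F) :
    wS i j t ∈ Msub (F := F) I.a I.b :=
  mul_mem (mul_mem (tx_mem_Msub h hiff _) (tx_mem_Msub h.symm hiff.symm _)) (tx_mem_Msub h hiff _)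

theorem out_c : ¬ (I.c = I.a ∨ I.c = I.b) := fun h => h.elim I.hac.symm I.hbc.symm

theorem out_d : ¬ (I.d = I.a ∨ I.d = I.b) := fun h => h.elim I.had.symm I.hbd.symm

theorem torus (t : Fˣ) :
    (DMult.dg (crt I.hcd t) : SpecialLinearGroup (Fin n) F) ∈ Msub I.a I.b ∧
      PP I * DMult.dg (crt I.hcd t) * (PP I)⁻¹ = DMult.dg (crt I.had t) := by
  refine ⟨?_, ?_⟩
  · rw [DMult.dg_crt, hS]
    exact mul_mem (wS_mem I.hcd (iff_of_false out_c out_d) _) (wS_mem I.hcd (iff_of_false out_c out_d) _)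
  · rw [mul_inv_eq_iff_eq_mul]
    refine Classical.sl_ext_mulVec fun v => ?_
    rw [show v = ∑ s, Pi.single s (v s) from (Finset.univ_sum_single v).symm, Matrix.mulVec_sum,
      Matrix.mulVec_sum]
    refine Finset.sum_congr rfl fun s _ => ?_
    rw [mulVec_mul', mulVec_mul', (mono_PP I).act, (mono_dg _).act, (mono_dg _).act,
      Equiv.Perm.one_apply, (mono_PP I).act, Equiv.Perm.one_apply]
    congr 1
    have h1 := I.hac; have h2 := I.had; have h3 := I.hcd
    have hu : ((crt I.had t : Tor F n) : Fin n → Fˣ) (pr I s) = ((crt I.hcd t : Tor F n) : Fin n → Fˣ) s := by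
      by_cases e1 : s = I.a
      · subst e1
        rw [pr_a]
        simp [crt, h1, h1.symm, h2, h2.symm, h3, h3.symm]
      by_cases e2 : s = I.c
      · subst e2
        rw [pr_c]
        simp [crt, h1, h1.symm, h2, h2.symm, h3, h3.symm]
      rw [pr_fix I e1 e2]
      simp [crt, Pi.mulSingle_apply, e1, e2]
    rw [hu]; ring

theorem comm_Z0 {i j : Fin n} (h : i ≠ j) (hiff : (i = I.a ∨ i = I.b) ↔ (j = I.a ∨ j = I.b))
    (s t : F) : Commute (K.A (tx i j s)) (K.Z0 t) := by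
  rcases eq_or_ne t 0 with rfl | ht
  · rw [Z0, SLMult.tx_zero, map_one, map_one]; exact Commute.one_right _
  obtain ⟨hm, hc⟩ := torus (F := F) (I := I) (Units.mk0 t ht)
  set u : SpecialLinearGroup (Fin n) F := DMult.dg (crt I.had (Units.mk0 t ht))
  have e : K.Z0 t = K.A u * K.Z0 1 * (K.A u)⁻¹ := by
    rw [← hc, ← K.conj_mem _ hm, Z0, Z0, ← map_inv, ← map_mul, ← map_mul, ← map_inv K.A, ← map_mul,
      ← map_mul, (mono_dg _).conj_tx I.hac.symm]
    simp [crt, I.hac, I.hac.symm, I.hcd, I.hcd.symm, I.had, I.had.symm]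
  rw [e]
  obtain ⟨s', hs'⟩ : ∃ s', tx i j s = u * tx i j s' * u⁻¹ := by
    refine ⟨s * ((crt I.had (Units.mk0 t ht) : Tor F n) : Fin n → Fˣ) j /
      ((crt I.had (Units.mk0 t ht) : Tor F n) : Fin n → Fˣ) i, ?_⟩
    rw [(mono_dg _).conj_tx h, Equiv.Perm.one_apply, Equiv.Perm.one_apply]
    congr 1
    field_simp
  have := (K.commM _ (tx_mem_Msub h hiff s')).map (MulAut.conj (K.A u)).toMonoidHom
  simp only [MulEquiv.coe_toMonoidHom, MulAut.conj_apply] at this
  rw [← map_inv, ← map_mul, ← map_mul, ← hs', map_inv] at this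
  exact this

theorem A_tx_comm (z : H) {i l j : Fin n} (hil : i ≠ l) (hlj : l ≠ j) (hij : i ≠ j) (t : F)
    (h1 : ∀ s, Commute (K.A (tx i l s)) z) (h2 : ∀ s, Commute (K.A (tx l j s)) z) :
    Commute (K.A (tx i j t)) z := by
  have := SLMult.tx_rel (F := F) hil hlj hij t 1
  rw [mul_one] at this
  rw [← this, map_commutatorElement, commutatorElement_def]
  exact (((h1 t).mul_left (h2 1)).mul_left (h1 t).inv_left).mul_left (h2 1).inv_left

theorem stab_D (i j : Fin n) (hij : i ≠ j) (hja : j ≠ I.a) (hjb : j ≠ I.b) (s t : F) :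
    Commute (K.A (tx i j s)) (K.Z0 t) := by
  have hj : ¬ (j = I.a ∨ j = I.b) := fun h => h.elim hja hjb
  have ha : ∀ l, l ≠ I.a → l ≠ I.b → l ≠ I.c → ∀ s, Commute (K.A (tx I.a l s)) (K.Z0 t) := by
    intro l l1 l2 l3 s
    have e := K.conjX (I := I) (Ne.symm l3) (iff_of_false out_c fun h => h.elim l1 l2) s
    rw [pr_c, pr_fix I l1 l3] at e
    simp only [sgn, I.hbc.symm, if_false, l2, one_mul, div_one] at e
    rw [← e]
    exact ((SLMult.tx_comm (Ne.symm l3) I.hac.symm l3 I.hac.symm s t).map K.A).map K.cj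
  have hbc : ∀ s, Commute (K.A (tx I.b I.c s)) (K.Z0 t) := by
    intro s
    have e := K.conjX (I := I) I.hab.symm (iff_of_true (Or.inr rfl) (Or.inl rfl)) (-s)
    rw [pr_a, pr_fix I I.hab.symm I.hbc] at e
    simp only [sgn, I.hab, if_false, if_true, div_one, neg_one_mul, neg_neg] at e
    rw [← e]
    exact ((SLMult.tx_comm I.hab.symm I.hac.symm I.hac I.hab.symm (-s) t).map K.A).map K.cj
  by_cases hia : i = I.a
  · subst hia
    by_cases hjc : j = I.c
    · subst hjc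
      exact K.A_tx_comm _ I.had I.hcd.symm I.hac s (ha _ I.had.symm I.hbd.symm I.hcd.symm)
        fun s => K.comm_Z0 I.hcd.symm (iff_of_false out_d out_c) s t
    exact ha j hja hjb hjc s
  by_cases hib : i = I.b
  · subst hib
    by_cases hjc : j = I.c
    · exact hjc ▸ hbc s
    exact K.A_tx_comm _ I.hbc (Ne.symm hjc) hij s hbc
      fun s => K.comm_Z0 (Ne.symm hjc) (iff_of_false out_c hj) s t
  exact K.comm_Z0 hij (iff_of_false (fun h => h.elim hia hib) hj) s t

/-- The layer of the roots `ε_i + ε_j`. -/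
def LD : Layer F I H where
  A := K.A
  Z0 := K.Z0
  add s t := by rw [Z0, Z0, Z0, SLMult.tx_add I.hac.symm, map_mul, map_mul]
  ab s t := K.comm_Z0 I.hab (iff_of_true (Or.inl rfl) (Or.inr rfl)) s t
  ba s t := K.comm_Z0 I.hab.symm (iff_of_true (Or.inr rfl) (Or.inl rfl)) s t
  stab := K.stab_D
  scale t ht := by
    obtain ⟨hm, hc⟩ := torus (F := F) (I := I) (Units.mk0 t ht)
    refine ⟨DMult.dg (crt I.had (Units.mk0 t ht)), ?_, ?_, ?_⟩
    · rw [(mono_dg _).2]; simp [crt, I.had, I.had.symm]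
    · rw [(mono_dg _).2]; simp [crt, I.hab, I.hab.symm, I.hbd, I.hbd.symm]
    · rw [← hc, ← K.conj_mem _ hm, Z0, Z0, ← map_inv, ← map_mul, ← map_mul, ← map_inv K.A, ← map_mul,
        ← map_mul, (mono_dg _).conj_tx I.hac.symm]
      simp [crt, I.hac, I.hac.symm, I.hcd, I.hcd.symm, I.had, I.had.symm]

theorem LD_eval {m : SpecialLinearGroup (Fin n) F} (hm : m ∈ Msub I.a I.b) (t : F) :
    K.LD.Z ((PP I * m * (PP I)⁻¹).1 *ᵥ Pi.single I.a t)
        ((PP I * m * (PP I)⁻¹).1 *ᵥ Pi.single I.b 1) =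
      K.cj (K.A (m * tx I.c I.a t * m⁻¹)) := by
  rw [← K.LD.conj_Z, ← Layer.Y, K.LD.Y_ab]
  show K.A _ * K.Z0 t * (K.A _)⁻¹ = _
  rw [← K.conj_mem m hm, Z0, map_mul, map_mul, map_mul, map_mul, map_inv, map_inv]

theorem mono_mul {g g' : SpecialLinearGroup (Fin n) F} {τ τ' : Equiv.Perm (Fin n)} {w w' : Fin n → F}
    (h : Mono g τ w) (h' : Mono g' τ' w') : Mono (g * g') (τ * τ') fun s => w (τ' s) * w' s :=
  ⟨fun s => mul_ne_zero (h.1 _) (h'.1 s), fun s => by rw [mulVec_mul', h'.2, h.act]; rfl⟩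

theorem PP_inv (s : Fin n) :
    ((PP I : SpecialLinearGroup (Fin n) F)⁻¹).1 *ᵥ Pi.single (pr I s) (sgn I s) = Pi.single s 1 := by
  rw [← (mono_PP I).2 s, ← mulVec_mul', inv_mul_cancel, Matrix.SpecialLinearGroup.coe_one,
    Matrix.one_mulVec]

theorem conj_vals {m : SpecialLinearGroup (Fin n) F} {τ : Equiv.Perm (Fin n)} {w : Fin n → F}
    (hm : Mono m τ w) (t : F) :
    (PP I * m * (PP I)⁻¹).1 *ᵥ Pi.single I.a t =
        Pi.single (pr I (τ I.c)) (sgn I (τ I.c) * w I.c * t) ∧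
      (PP I * m * (PP I)⁻¹).1 *ᵥ Pi.single I.b 1 =
        Pi.single (pr I (τ I.b)) (-(sgn I (τ I.b) * w I.b)) := by
  have h1 : ((PP I : SpecialLinearGroup (Fin n) F)⁻¹).1 *ᵥ Pi.single I.a t = Pi.single I.c t := by
    have := PP_inv (F := F) (I := I) I.c
    rw [pr_c, sgn, if_neg I.hbc.symm] at this
    rw [mulVec_single', this, ← Pi.single_smul, smul_eq_mul, mul_one]
  have h2 : ((PP I : SpecialLinearGroup (Fin n) F)⁻¹).1 *ᵥ Pi.single I.b (1 : F) = Pi.single I.b (-1) := by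
    have := PP_inv (F := F) (I := I) I.b
    rw [pr_fix I I.hab.symm I.hbc, sgn, if_pos rfl, mulVec_single'] at this
    calc _ = (-1 : F) • ((-1 : F) • (((PP I : SpecialLinearGroup (Fin n) F)⁻¹).1 *ᵥ
          Pi.single I.b (1 : F))) := by rw [smul_smul, neg_one_mul, neg_neg, one_smul]
      _ = _ := by rw [this, ← Pi.single_smul, smul_eq_mul, mul_one]
  refine ⟨?_, ?_⟩
  · rw [mulVec_mul', mulVec_mul', h1, hm.act, (mono_PP I).act, mul_assoc]
  · rw [mulVec_mul', mulVec_mul', h2, hm.act, (mono_PP I).act]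
    congr 1; ring

theorem mono_wS {i j : Fin n} (h : i ≠ j) :
    Mono (wS i j (1 : F)) (Equiv.swap i j) (fun s => if s = i then -1 else 1) := by
  refine ⟨fun s => by beta_reduce; split_ifs <;> simp, fun s => funext fun r => ?_⟩
  rw [DMult.wS_mulVec h one_ne_zero]
  by_cases s1 : s = i
  · subst s1; by_cases r1 : r = s <;> by_cases r2 : r = j <;> simp_all [Pi.single_apply]
  by_cases s2 : s = j
  · subst s2; by_cases r1 : r = i <;> by_cases r2 : r = s <;> simp_all [Pi.single_apply]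
  rw [Equiv.swap_apply_of_ne_of_ne s1 s2]
  by_cases r1 : r = i <;> by_cases r2 : r = j <;> simp_all [Pi.single_apply]

variable {i : Fin n}

/-- `g` on the roots leaving the rest for `a`. -/
theorem cj_ia (h1 : i ≠ I.a) (h2 : i ≠ I.b) (h3 : i ≠ I.c) (t : F) :
    K.cj (K.A (tx i I.a t)) = K.LD.Y i I.b t := by
  have hm := mono_wS (F := F) h3
  have hh := K.LD_eval (m := wS i I.c 1)
    (wS_mem h3 (iff_of_false (fun h => h.elim h1 h2) out_c) _) t
  have hb : Equiv.swap i I.c I.b = I.b := Equiv.swap_apply_of_ne_of_ne (Ne.symm h2) I.hbc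
  have ha : Equiv.swap i I.c I.a = I.a := Equiv.swap_apply_of_ne_of_ne (Ne.symm h1) I.hac
  rw [(conj_vals hm t).1, (conj_vals hm t).2, hm.conj_tx I.hac.symm, ha, hb, Equiv.swap_apply_right,
    pr_fix I h1 h3, pr_fix I I.hab.symm I.hbc] at hh
  simpa [sgn, h2, Ne.symm h3, Ne.symm h1, Ne.symm h2, Layer.Y] using hh.symm

theorem cj_cb (t : F) : K.cj (K.A (tx I.c I.b t)) = K.LD.Y I.a I.c t := by
  have hm := mono_wS (F := F) I.hab.symm
  have hh := K.LD_eval (m := wS I.b I.a 1)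
    (wS_mem I.hab.symm (iff_of_true (Or.inr rfl) (Or.inl rfl)) _) t
  have hc : Equiv.swap I.b I.a I.c = I.c := Equiv.swap_apply_of_ne_of_ne I.hbc.symm I.hac.symm
  rw [(conj_vals hm t).1, (conj_vals hm t).2, hm.conj_tx I.hac.symm, hc, Equiv.swap_apply_right,
    Equiv.swap_apply_left, pr_c, pr_a] at hh
  simpa [sgn, I.hbc.symm, I.hab, Layer.Y] using hh.symm

theorem cj_ib (h1 : i ≠ I.a) (h2 : i ≠ I.b) (h3 : i ≠ I.c) (t : F) :
    K.cj (K.A (tx i I.b t)) = K.LD.Y i I.c t := by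
  have hm := mono_mul (mono_wS (F := F) h3) (mono_wS (F := F) I.hab.symm)
  have hh := K.LD_eval (m := wS i I.c 1 * wS I.b I.a 1)
    (mul_mem (wS_mem h3 (iff_of_false (fun h => h.elim h1 h2) out_c) _)
      (wS_mem I.hab.symm (iff_of_true (Or.inr rfl) (Or.inl rfl)) _)) t
  have hc : Equiv.swap I.b I.a I.c = I.c := Equiv.swap_apply_of_ne_of_ne I.hbc.symm I.hac.symm
  have hb : Equiv.swap i I.c I.b = I.b := Equiv.swap_apply_of_ne_of_ne (Ne.symm h2) I.hbc
  have ha : Equiv.swap i I.c I.a = I.a := Equiv.swap_apply_of_ne_of_ne (Ne.symm h1) I.hac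
  rw [(conj_vals hm t).1, (conj_vals hm t).2, hm.conj_tx I.hac.symm] at hh
  simp only [Equiv.Perm.mul_apply, hc, Equiv.swap_apply_right, Equiv.swap_apply_left, ha, hb,
    pr_fix I h1 h3, pr_a] at hh
  simpa [sgn, h1, h2, h3, Ne.symm h3, Ne.symm h1, Ne.symm h2, I.hbc.symm, I.hab, I.hab.symm, Layer.Y]
    using hh.symm

theorem hbD (s t : F) : ⁅K.A (tx I.c I.b s), K.Z0 t⁆ = K.LD.Y I.a I.c (s * t) := by
  have e := K.conjX (I := I) I.hab (iff_of_true (Or.inl rfl) (Or.inr rfl)) (-s)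
  rw [pr_a, pr_fix I I.hab.symm I.hbc] at e
  simp only [sgn, I.hab, if_false, if_true, one_mul, div_neg, div_one, neg_neg] at e
  rw [← e, Z0, ← map_commutatorElement, ← map_commutatorElement, ← commutatorElement_inv,
    SLMult.tx_rel I.hac.symm I.hab I.hbc.symm, ← K.cj_cb, tx_inv' I.hbc.symm]
  congr 2
  ring

theorem commD1 (s t : F) : Commute (K.Z0 s) (K.LD.Y I.a I.c t) := by
  rw [← K.cj_cb]
  exact ((SLMult.tx_comm I.hac.symm I.hbc.symm I.hac I.hbc.symm s t).map K.A).map K.cj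

theorem commD2 (s t : F) : Commute (K.Z0 s) (K.LD.Y I.d I.c t) := by
  rw [← K.cj_ib I.had.symm I.hbd.symm I.hcd.symm]
  exact ((SLMult.tx_comm I.hac.symm I.hbd.symm I.had I.hbc.symm s t).map K.A).map K.cj

theorem YD_comm {i j k l : Fin n} (hij : i ≠ j) (hkl : k ≠ l) (s t : F) :
    Commute (K.LD.Y i j s) (K.LD.Y k l t) := K.LD.Y_comm K.commD1 K.commD2 hij hkl s t

theorem relD {i j p : Fin n} (hij : i ≠ j) (hip : i ≠ p) (hjp : j ≠ p) (s t : F) :
    ⁅K.A (tx p j s), K.LD.Y i j t⁆ = K.LD.Y i p (s * t) := K.LD.rel K.hbD hij hip hjp s t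

theorem cj_ac (t : F) : K.cj (K.LD.Y I.c I.b t) = K.A (tx I.a I.c t) := by
  have h := congrArg K.cj (K.relD (i := I.b) (j := I.d) (p := I.c) I.hbd I.hbc I.hcd.symm 1 (-t))
  have e1 := K.conjX (I := I) I.hcd (iff_of_false out_c out_d) 1
  rw [pr_c, pr_fix I I.had.symm I.hcd.symm] at e1
  simp only [sgn, I.hbc.symm, I.hbd.symm, if_false, mul_one, div_one] at e1
  have e2 : K.cj (K.LD.Y I.b I.d (-t)) = K.A (tx I.d I.c t) := by
    rw [K.LD.Y_swap I.hbd.symm, neg_neg, ← K.cj_ia I.had.symm I.hbd.symm I.hcd.symm]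
    have e := K.conjX (I := I) I.hcd.symm (iff_of_false out_d out_c) t
    rw [pr_c, pr_fix I I.had.symm I.hcd.symm] at e
    simp only [sgn, I.hbc.symm, I.hbd.symm, if_false, one_mul, div_one] at e
    rw [← e, K.cj_cube]
  rw [map_commutatorElement, e1, e2, ← map_commutatorElement, SLMult.tx_rel I.had I.hcd.symm I.hac,
    one_mul, one_mul, K.LD.Y_swap I.hbc.symm, neg_neg] at h
  exact h.symm

theorem cj_N0 (t : F) : K.cj (K.N0 t) = K.LD.Y I.b I.c t := by
  rw [N0, ← K.cj_ac, K.cj_cube, K.LD.Y_swap I.hbc.symm]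
  

theorem commute_of_cj {x y : H} (h : Commute (K.cj x) (K.cj y)) : Commute x y := by
  have := (h.map K.cj).map K.cj
  rwa [K.cj_cube, K.cj_cube] at this

theorem stab_E (i j : Fin n) (hij : i ≠ j) (hja : j ≠ I.a) (hjb : j ≠ I.b) (s t : F) :
    Commute (K.A (tx j i s)) (K.N0 t) := by
  refine K.commute_of_cj ?_
  rw [K.cj_N0]
  by_cases hi : i = I.a ∨ i = I.b
  · rcases hi with rfl | rfl
    · by_cases hjc : j = I.c
      · subst hjc
        show Commute (K.Z0 s) _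
        rw [show K.Z0 s = K.LD.Z0 s from rfl, ← K.LD.Y_ab]
        exact K.YD_comm I.hab I.hbc s t
      rw [K.cj_ia hja hjb hjc]
      exact K.YD_comm hjb I.hbc s t
    · by_cases hjc : j = I.c
      · subst hjc
        rw [K.cj_cb]
        exact K.YD_comm I.hac I.hbc s t
      rw [K.cj_ib hja hjb hjc]
      exact K.YD_comm hjc I.hbc s t
  obtain ⟨i1, i2⟩ := not_or.1 hi
  rw [K.conjX hij.symm (iff_of_false (fun h => h.elim hja hjb) hi)]
  refine K.LD.conj_tx_fix ((pr I).injective.ne hij.symm) ?_ ?_ _ t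
  · by_cases hic : i = I.c
    · rw [hic, pr_c]; exact I.hab
    · rw [pr_fix I i1 hic]; exact i2
  · by_cases hic : i = I.c
    · rw [hic, pr_c]; exact I.hac
    · rw [pr_fix I i1 hic]; exact hic

/-- The layer of the roots `-ε_i - ε_j`. -/
def LE : Layer F I H where
  A := K.A.comp AutPSL.iotaSL.toMonoidHom
  Z0 := K.N0
  add s t := by rw [N0, N0, N0, neg_add, SLMult.tx_add I.hac, map_mul, map_mul]
  ab s t := by
    show Commute (K.A (AutPSL.iotaSL _)) _
    rw [CurtisTitsA.iota_tx I.hab]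
    refine K.commute_of_cj ?_
    rw [K.cj_N0, K.conjX I.hab.symm (iff_of_true (Or.inr rfl) (Or.inl rfl)), pr_a,
      pr_fix I I.hab.symm I.hbc, K.LD.Y_swap I.hbc.symm]
    exact K.LD.conj_tx_self I.hbc.symm _ _
  ba s t := by
    show Commute (K.A (AutPSL.iotaSL _)) _
    rw [CurtisTitsA.iota_tx I.hab.symm]
    refine K.commute_of_cj ?_
    rw [K.cj_N0, K.conjX I.hab (iff_of_true (Or.inl rfl) (Or.inr rfl)), pr_a,
      pr_fix I I.hab.symm I.hbc]
    exact K.LD.conj_tx_self I.hbc _ _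
  stab i j hij hja hjb s t := by
    show Commute (K.A (AutPSL.iotaSL _)) _
    rw [CurtisTitsA.iota_tx hij]
    exact K.stab_E i j hij hja hjb _ t
  scale t ht := by
    obtain ⟨hm, hc⟩ := torus (F := F) (I := I) (Units.mk0 t ht)⁻¹
    refine ⟨AutPSL.iotaSL (DMult.dg (crt I.had (Units.mk0 t ht)⁻¹)), ?_, ?_, ?_⟩
    · rw [iota_dg, (mono_dg _).2]; simp [crt, I.had, I.had.symm]
    · rw [iota_dg, (mono_dg _).2]; simp [crt, I.hab, I.hab.symm, I.hbd, I.hbd.symm]
    · show K.A (AutPSL.iotaSL (AutPSL.iotaSL _)) * _ * (K.A (AutPSL.iotaSL (AutPSL.iotaSL _)))⁻¹ = _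
      rw [AutPSL.iotaSL_iotaSL, ← hc, ← K.conj_mem _ hm, N0, N0, ← map_inv, ← map_mul, ← map_mul,
        ← map_inv K.A, ← map_mul, ← map_mul, (mono_dg _).conj_tx I.hac]
      simp [crt, I.hac, I.hac.symm, I.hcd, I.hcd.symm, I.had, I.had.symm]

theorem LE_A {i j : Fin n} (h : i ≠ j) (t : F) : K.LE.A (tx i j t) = K.A (tx j i (-t)) := by
  show K.A (AutPSL.iotaSL _) = _
  rw [CurtisTitsA.iota_tx h]

theorem LE_eval {m : SpecialLinearGroup (Fin n) F} (hm : m ∈ Msub I.a I.b)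
    (hi : AutPSL.iotaSL m = m) (t : F) :
    K.LE.Z ((PP I * m * (PP I)⁻¹).1 *ᵥ Pi.single I.a t)
        ((PP I * m * (PP I)⁻¹).1 *ᵥ Pi.single I.b 1) =
      K.cj (K.A (m * tx I.a I.c (-t) * m⁻¹)) := by
  rw [← K.LE.conj_Z, ← Layer.Y, K.LE.Y_ab]
  show K.A (AutPSL.iotaSL _) * K.N0 t * (K.A (AutPSL.iotaSL _))⁻¹ = _
  rw [map_mul AutPSL.iotaSL, map_mul AutPSL.iotaSL, map_inv AutPSL.iotaSL, iota_PP, hi,
    ← K.conj_mem m hm, N0, map_mul, map_mul, map_mul, map_mul, map_inv, map_inv]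

theorem cjE_bc (t : F) : K.cj (K.A (tx I.b I.c (-t))) = K.LE.Y I.a I.c t := by
  have hm := mono_wS (F := F) I.hab.symm
  have hh := K.LE_eval (m := wS I.b I.a 1)
    (wS_mem I.hab.symm (iff_of_true (Or.inr rfl) (Or.inl rfl)) _) (iota_wS I.hab.symm) t
  have hc : Equiv.swap I.b I.a I.c = I.c := Equiv.swap_apply_of_ne_of_ne I.hbc.symm I.hac.symm
  rw [(conj_vals hm t).1, (conj_vals hm t).2, hm.conj_tx I.hac, hc, Equiv.swap_apply_right,
    Equiv.swap_apply_left, pr_c, pr_a] at hh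
  simpa [sgn, I.hbc.symm, I.hab, Layer.Y] using hh.symm

theorem cjE_bi (h1 : i ≠ I.a) (h2 : i ≠ I.b) (h3 : i ≠ I.c) (t : F) :
    K.cj (K.A (tx I.b i (-t))) = K.LE.Y i I.c t := by
  have hm := mono_mul (mono_wS (F := F) h3) (mono_wS (F := F) I.hab.symm)
  have hh := K.LE_eval (m := wS i I.c 1 * wS I.b I.a 1)
    (mul_mem (wS_mem h3 (iff_of_false (fun h => h.elim h1 h2) out_c) _)
      (wS_mem I.hab.symm (iff_of_true (Or.inr rfl) (Or.inl rfl)) _))
    (by rw [map_mul, iota_wS h3, iota_wS I.hab.symm]) t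
  have hc : Equiv.swap I.b I.a I.c = I.c := Equiv.swap_apply_of_ne_of_ne I.hbc.symm I.hac.symm
  have hb : Equiv.swap i I.c I.b = I.b := Equiv.swap_apply_of_ne_of_ne (Ne.symm h2) I.hbc
  have ha : Equiv.swap i I.c I.a = I.a := Equiv.swap_apply_of_ne_of_ne (Ne.symm h1) I.hac
  rw [(conj_vals hm t).1, (conj_vals hm t).2, hm.conj_tx I.hac] at hh
  simp only [Equiv.Perm.mul_apply, hc, Equiv.swap_apply_right, Equiv.swap_apply_left, ha, hb,
    pr_fix I h1 h3, pr_a] at hh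
  simpa [sgn, h1, h2, h3, Ne.symm h3, Ne.symm h1, Ne.symm h2, I.hbc.symm, I.hab, I.hab.symm, Layer.Y]
    using hh.symm

theorem hbE (s t : F) : ⁅K.LE.A (tx I.c I.b s), K.N0 t⁆ = K.LE.Y I.a I.c (s * t) := by
  rw [K.LE_A I.hbc.symm]
  have e := K.conjX (I := I) I.hab.symm (iff_of_true (Or.inr rfl) (Or.inl rfl)) s
  rw [pr_a, pr_fix I I.hab.symm I.hbc] at e
  simp only [sgn, I.hab, if_false, if_true, div_one, neg_one_mul] at e
  rw [← e, N0, ← map_commutatorElement, ← map_commutatorElement,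
    SLMult.tx_rel I.hab.symm I.hac I.hbc, ← K.cjE_bc, mul_neg]

theorem commE1 (s t : F) : Commute (K.N0 s) (K.LE.Y I.a I.c t) := by
  rw [← K.cjE_bc]
  exact ((SLMult.tx_comm I.hac I.hbc I.hbc.symm I.hac (-s) (-t)).map K.A).map K.cj

theorem commE2 (s t : F) : Commute (K.N0 s) (K.LE.Y I.d I.c t) := by
  rw [← K.cjE_bi I.had.symm I.hbd.symm I.hcd.symm]
  exact ((SLMult.tx_comm I.hac I.hbd I.hbc.symm I.had (-s) (-t)).map K.A).map K.cj

theorem YE_comm {i j k l : Fin n} (hij : i ≠ j) (hkl : k ≠ l) (s t : F) :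
    Commute (K.LE.Y i j s) (K.LE.Y k l t) := K.LE.Y_comm K.commE1 K.commE2 hij hkl s t

theorem relE {i j p : Fin n} (hij : i ≠ j) (hip : i ≠ p) (hjp : j ≠ p) (s t : F) :
    ⁅K.LE.A (tx p j s), K.LE.Y i j t⁆ = K.LE.Y i p (s * t) := K.LE.rel K.hbE hij hip hjp s t

theorem LE_conj {g : SpecialLinearGroup (Fin n) F} {τ : Equiv.Perm (Fin n)} {w : Fin n → F}
    (hg : Mono g τ w) {i j : Fin n} (hij : i ≠ j) (t : F) :
    K.A g * K.LE.Y i j t * (K.A g)⁻¹ = K.LE.Y (τ i) (τ j) ((w i)⁻¹ * (w j)⁻¹ * t) := by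
  have := K.LE.conj_Y (mono_iota hg) hij t
  rwa [show K.LE.A (AutPSL.iotaSL g) = K.A g from congrArg K.A (AutPSL.iotaSL_iotaSL g)] at this

theorem LD_conj {g : SpecialLinearGroup (Fin n) F} {τ : Equiv.Perm (Fin n)} {w : Fin n → F}
    (hg : Mono g τ w) {i j : Fin n} (hij : i ≠ j) (t : F) :
    K.A g * K.LD.Y i j t * (K.A g)⁻¹ = K.LD.Y (τ i) (τ j) (w i * w j * t) := K.LD.conj_Y hg hij t

/-- The two layers meet in the linear part. -/
theorem relDE {i k l : Fin n} (hik : i ≠ k) (hkl : k ≠ l) (hil : i ≠ l) (s t : F) :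
    ⁅K.LD.Y i k s, K.LE.Y k l t⁆ = K.A (tx i l (s * t)) := by
  have base : ⁅K.LD.Y I.b I.a s, K.LE.Y I.a I.c t⁆ = K.A (tx I.b I.c (s * t)) := by
    rw [K.LD.Y_swap I.hab, K.LD.Y_ab, ← K.cjE_bc]
    show ⁅K.cj _, K.cj _⁆ = _
    rw [← map_commutatorElement, ← map_commutatorElement, ← commutatorElement_inv,
      SLMult.tx_rel I.hbc I.hac.symm I.hab.symm, tx_inv' I.hab.symm,
      K.conjX I.hab.symm (iff_of_true (Or.inr rfl) (Or.inl rfl)), pr_a, pr_fix I I.hab.symm I.hbc]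
    congr 2
    simp [sgn, I.hab, mul_comm]
  obtain ⟨g, τ, w, hg, rfl, rfl, rfl, wa, wb, wc⟩ := Layer.chart (F := F) (I := I) hik.symm hkl hil
  have h := congrArg (MulAut.conj (K.A g)) base
  rw [map_commutatorElement, MulAut.conj_apply, MulAut.conj_apply, MulAut.conj_apply,
    K.LD_conj hg I.hab.symm, K.LE_conj hg I.hac, ← map_inv, ← map_mul, ← map_mul,
    hg.conj_tx I.hbc, wa, wb, wc, inv_one, one_mul, one_mul, one_mul, one_mul, div_one] at h
  exact h

theorem commDE {i j k l : Fin n} (hij : i ≠ j) (hkl : k ≠ l) (hik : i ≠ k) (hil : i ≠ l) (hjk : j ≠ k)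
    (hjl : j ≠ l) (s t : F) : Commute (K.LD.Y i j s) (K.LE.Y k l t) := by
  have base : ∀ s t, Commute (K.LD.Y I.a I.b s) (K.LE.Y I.d I.c t) := fun s t => by
    rw [K.LD.Y_ab, ← K.cjE_bi I.had.symm I.hbd.symm I.hcd.symm]
    exact ((SLMult.tx_comm I.hac.symm I.hbd I.hab I.hcd s (-t)).map K.A).map K.cj
  obtain ⟨τ, ta, tb, tc, td⟩ := exists_perm4 I.hab I.hac I.hbc I.had I.hbd I.hcd hij hil hjl hik hjk
    hkl.symm
  obtain ⟨g, w, hg, -⟩ := exists_monoP (F := F) τ I.d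
  have := (base (s / (w I.a * w I.b)) (t / ((w I.d)⁻¹ * (w I.c)⁻¹))).map
    (MulAut.conj (K.A g)).toMonoidHom
  simp only [MulEquiv.coe_toMonoidHom, MulAut.conj_apply] at this
  rwa [K.LD_conj hg I.hab, K.LE_conj hg I.hcd.symm, ta, tb, tc, td,
    mul_div_cancel₀ _ (mul_ne_zero (hg.1 _) (hg.1 _)),
    mul_div_cancel₀ _ (mul_ne_zero (inv_ne_zero (hg.1 _)) (inv_ne_zero (hg.1 _)))] at this

theorem σ_A {i j : Fin n} (h : i ≠ j) (t : F) :
    K.σ (K.A (tx i j t)) = el (ok_of_lev (lev_inl_inr h)) t := by rw [K.hA, Lam_tx _ h]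

theorem σ_AE {i j : Fin n} (h : i ≠ j) (t : F) :
    K.σ (K.LE.A (tx i j t)) = el (ok_of_lev (lev_inl_inr h.symm).symm) t := by
  rw [K.LE_A h, K.σ_A h.symm,
    el_swap (ok_of_lev (lev_inl_inr h.symm).symm) (ok_of_lev (lev_inl_inr h.symm)), neg_neg]

theorem σ_LD {i j : Fin n} (h : i ≠ j) (t : F) :
    K.σ (K.LD.Y i j t) = el (ok_of_lev (lev_ll h)) t := by
  let P : Fin n → Fin n → Prop := fun i j =>
    ∀ (h : i ≠ j) (t : F), K.σ (K.LD.Y i j t) = el (ok_of_lev (lev_ll h)) t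
  have sw : ∀ i j, P i j → P j i := fun i j hP h t => by
    rw [K.LD.Y_swap h.symm, hP h.symm, ← el_swap (ok_of_lev (lev_ll h.symm)) (ok_of_lev (lev_ll h))]
  have st : ∀ i j p, i ≠ j → j ≠ p → P i j → P i p := fun i j p hij hjp hP h t => by
    have := K.relD hij h hjp 1 t
    rw [one_mul] at this
    rw [← this, map_commutatorElement, K.σ_A hjp.symm, hP hij,
      el_swap (ok_of_lev (lev_ll hij.symm)) (ok_of_lev (lev_ll hij)),
      el_swap (ok_of_lev (lev_ll h.symm)) (ok_of_lev (lev_ll h))]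
    have e := el_rel (F := F) (a := (Sum.inl p : Fin n ⊕ Fin n)) (c := Sum.inl j) (b := Sum.inl i)
      (lev_ll h.symm) (lev_ll hjp.symm) (lev_ll hij.symm) (ok_of_lev (lev_ll h.symm))
      (ok_of_lev (lev_inl_inr hjp.symm)) (ok_of_lev (lev_ll hij.symm)) 1 (-t)
    rw [one_mul] at e
    exact e
  have hab : P I.a I.b := fun _ t => by
    rw [K.LD.Y_ab]
    show K.σ (K.cj _) = _
    rw [cj_apply, map_mul, map_mul, map_inv, K.hA, K.hg, g0_conj_ca]
  have ha : ∀ p, I.a ≠ p → P I.a p := fun p hp => by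
    by_cases hb : p = I.b
    · exact hb ▸ hab
    · exact st _ _ _ I.hab (Ne.symm hb) hab
  by_cases hi : i = I.a
  · subst hi; exact ha j h h t
  by_cases hj : j = I.a
  · subst hj; exact sw _ _ (ha i (Ne.symm hi)) h t
  exact st i I.a j hi (Ne.symm hj) (sw _ _ (ha i (Ne.symm hi))) h t

theorem σ_LE {i j : Fin n} (h : i ≠ j) (t : F) :
    K.σ (K.LE.Y i j t) = el (ok_of_lev (lev_rr h)) t := by
  let P : Fin n → Fin n → Prop := fun i j =>
    ∀ (h : i ≠ j) (t : F), K.σ (K.LE.Y i j t) = el (ok_of_lev (lev_rr h)) t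
  have sw : ∀ i j, P i j → P j i := fun i j hP h t => by
    rw [K.LE.Y_swap h.symm, hP h.symm, ← el_swap (ok_of_lev (lev_rr h.symm)) (ok_of_lev (lev_rr h))]
  have st : ∀ i j p, i ≠ j → j ≠ p → P i j → P i p := fun i j p hij hjp hP h t => by
    have := K.relE hij h hjp 1 t
    rw [one_mul] at this
    rw [← this, map_commutatorElement, K.σ_AE hjp.symm, hP hij,
      el_swap (ok_of_lev (lev_rr hij.symm)) (ok_of_lev (lev_rr hij)),
      el_swap (ok_of_lev (lev_rr h.symm)) (ok_of_lev (lev_rr h))]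
    have e := el_rel (F := F) (a := (Sum.inr p : Fin n ⊕ Fin n)) (c := Sum.inr j) (b := Sum.inr i)
      (lev_rr h.symm) (lev_rr hjp.symm) (lev_rr hij.symm) (ok_of_lev (lev_rr h.symm))
      (ok_of_lev (lev_inl_inr hjp).symm) (ok_of_lev (lev_rr hij.symm)) 1 (-t)
    rw [one_mul] at e
    exact e
  have hab : P I.a I.b := fun _ t => by
    rw [K.LE.Y_ab]
    show K.σ (K.cj _) = _
    rw [cj_apply, map_mul, map_mul, map_inv, K.hA, K.hg, Lam_tx _ I.hac,
      g0_conj I _ (tau_vals I).2.1 (tau_vals I).2.2.2.1 (ok_of_lev (lev_rr I.hab.symm)),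
      el_swap (ok_of_lev (lev_rr I.hab.symm)) (ok_of_lev (lev_rr I.hab))]
  have ha : ∀ p, I.a ≠ p → P I.a p := fun p hp => by
    by_cases hb : p = I.b
    · exact hb ▸ hab
    · exact st _ _ _ I.hab (Ne.symm hb) hab
  by_cases hi : i = I.a
  · subst hi; exact ha j h h t
  by_cases hj : j = I.a
  · subst hj; exact sw _ _ (ha i (Ne.symm hi)) h t
  exact st i I.a j hi (Ne.symm hj) (sw _ _ (ha i (Ne.symm hi))) h t

/-- The root elements. -/
noncomputable def X : Fin n ⊕ Fin n → Fin n ⊕ Fin n → F → H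
  | .inl i, .inr j, t => K.A (tx i j t)
  | .inr i, .inl j, t => K.LE.A (tx i j t)
  | .inl i, .inl j, t => K.LD.Y i j t
  | .inr i, .inr j, t => K.LE.Y i j t

theorem ne_of_lev {i j : Fin n} {p q : Fin n ⊕ Fin n} (hp : lev p = (i : ℕ)) (hq : lev q = (j : ℕ))
    (h : lev p ≠ lev q) : i ≠ j := fun e => h (by rw [hp, hq, e])

/-- All the Steinberg relations. -/
noncomputable def rels : Rels F n H where
  σ := K.σ
  X := K.X
  three := I.three
  hσ {p q} h t := by
    have hl := lev_ne_of_ok h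
    rcases p with i | i <;> rcases q with j | j <;> simp only [X] <;>
      have hij : i ≠ j := ne_of_lev rfl rfl hl
    · exact K.σ_LD hij t
    · exact K.σ_A hij t
    · exact K.σ_AE hij t
    · exact K.σ_LE hij t
  swap {p q} hl t := by
    rcases p with i | i <;> rcases q with j | j <;> simp only [X] <;>
      have hij : i ≠ j := ne_of_lev rfl rfl hl
    · exact K.LD.Y_swap hij t
    · rw [K.LE_A hij.symm]
    · rw [K.LE_A hij, neg_neg]
    · exact K.LE.Y_swap hij t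
  add {p q} hl t u := by
    rcases p with i | i <;> rcases q with j | j <;> simp only [X] <;>
      have hij : i ≠ j := ne_of_lev rfl rfl hl
    · exact K.LD.Y_add hij t u
    · rw [SLMult.tx_add hij, map_mul]
    · rw [SLMult.tx_add hij, map_mul]
    · exact K.LE.Y_add hij t u
  rel {p q r} hpq hpr hrq t u := by
    rcases p with i | i <;> rcases r with k | k <;> rcases q with l | l <;>
      simp only [X, bar, Sum.swap_inl, Sum.swap_inr] <;>
      have hil : i ≠ l := ne_of_lev rfl rfl hpq <;>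
      have hik : i ≠ k := ne_of_lev rfl rfl hpr <;>
      have hkl : k ≠ l := ne_of_lev rfl rfl hrq
    · rw [K.LD.Y_swap hkl.symm, K.relD hkl.symm hil.symm hik.symm, K.LD.Y_swap hil, mul_neg, neg_neg]
    · rw [← map_commutatorElement, SLMult.tx_rel hik hkl hil]
    · rw [K.LE_A hkl, ← commutatorElement_inv, K.relD hik hil hkl, K.LD.Y_inv hil]
      congr 1; ring
    · exact K.relDE hik hkl hil t u
    · rw [K.LE.Y_swap hik.symm, K.LD.Y_swap hkl.symm, ← commutatorElement_inv,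
        K.relDE hkl.symm hik.symm hil.symm, ← map_inv, tx_inv' hil.symm, K.LE_A hil]
      congr 3; ring
    · rw [show K.A (tx k l u) = K.LE.A (tx l k (-u)) by rw [K.LE_A hkl.symm, neg_neg],
        ← commutatorElement_inv, K.relE hik hil hkl, K.LE.Y_inv hil]
      congr 1; ring
    · rw [← map_commutatorElement, SLMult.tx_rel hik hkl hil]
    · rw [K.LE.Y_swap hkl.symm, K.relE hkl.symm hil.symm hik.symm, K.LE.Y_swap hil, mul_neg, neg_neg]
  opp {p q} hl t u := by
    rcases p with i | i <;> rcases q with j | j <;> simp only [X, bar, Sum.swap_inl, Sum.swap_inr] <;>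
      have hij : i ≠ j := ne_of_lev rfl rfl hl
    · rw [K.LD.Y_swap hij.symm]; exact (K.LD.conj_tx_self hij.symm u _).symm
    · rw [K.LD.Y_swap hij.symm]; exact K.LD.conj_tx_self hij.symm t _
    · rw [K.LE.Y_swap hij.symm]; exact K.LE.conj_tx_self hij.symm t _
    · rw [K.LE.Y_swap hij.symm]; exact (K.LE.conj_tx_self hij.symm u _).symm
  comm {p q r v} hpq hrv h1 h2 h3 h4 t u := by
    have AA : ∀ {i j k l : Fin n}, i ≠ j → k ≠ l → j ≠ k → i ≠ l → ∀ t u : F,
        Commute (K.A (tx i j t)) (K.A (tx k l u)) := fun a b c d t u =>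
      (SLMult.tx_comm a b c d t u).map K.A
    have AD : ∀ {i j k l : Fin n}, i ≠ j → j ≠ k → j ≠ l → ∀ t u : F,
        Commute (K.A (tx i j t)) (K.LD.Y k l u) := fun a b c t u => K.LD.conj_tx_fix a b c t u
    have EE : ∀ {i j k l : Fin n}, i ≠ j → j ≠ k → j ≠ l → ∀ t u : F,
        Commute (K.LE.A (tx i j t)) (K.LE.Y k l u) := fun a b c t u => K.LE.conj_tx_fix a b c t u
    have AE : ∀ {i j k l : Fin n}, i ≠ j → i ≠ k → i ≠ l → ∀ t u : F,
        Commute (K.A (tx i j t)) (K.LE.Y k l u) := fun a b c t u => by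
      rw [← neg_neg t, ← K.LE_A a.symm]; exact K.LE.conj_tx_fix a.symm b c _ u
    have ED : ∀ {i j k l : Fin n}, i ≠ j → i ≠ k → i ≠ l → ∀ t u : F,
        Commute (K.LE.A (tx i j t)) (K.LD.Y k l u) := fun a b c t u => by
      rw [K.LE_A a]; exact K.LD.conj_tx_fix a.symm b c _ u
    rcases p with i | i <;> rcases q with j | j <;> rcases r with k | k <;> rcases v with l | l <;>
      simp only [bar, Sum.swap_inl, Sum.swap_inr, ne_eq, reduceCtorEq, not_false_eq_true,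
        Sum.inl.injEq, Sum.inr.injEq] at h1 h2 h3 h4 <;>
      simp only [X] <;>
      have hij : i ≠ j := ne_of_lev rfl rfl hpq <;>
      have hkl : k ≠ l := ne_of_lev rfl rfl hrv
    · exact K.YD_comm hij hkl t u
    · exact (AD hkl (Ne.symm h4) (Ne.symm h2) u t).symm
    · exact (ED hkl (Ne.symm h3) (Ne.symm h1) u t).symm
    · exact K.commDE hij hkl h3 h4 h1 h2 t u
    · exact AD hij h1 h2 t u
    · exact AA hij hkl h1 h4 t u
    · rw [K.LE_A hkl]; exact AA hij hkl.symm h2 h3 t _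
    · exact AE hij h3 h4 t u
    · exact ED hij h3 h4 t u
    · rw [K.LE_A hij]; exact AA hij.symm hkl h3 h2 _ u
    · rw [K.LE_A hij, K.LE_A hkl]; exact AA hij.symm hkl.symm h4 h1 _ _
    · exact EE hij h1 h2 t u
    · exact (K.commDE hkl hij (Ne.symm h3) (Ne.symm h1) (Ne.symm h4) (Ne.symm h2) u t).symm
    · exact (AE hkl (Ne.symm h3) (Ne.symm h1) u t).symm
    · exact (EE hkl (Ne.symm h4) (Ne.symm h2) u t).symm
    · exact K.YE_comm hij hkl t u

end Dat

end Cfsg.Agent.OPlusPres
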