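import Cfsg.Agent.S2279
import Cfsg.Agent.RegGen.N3
import Cfsg.Agent.ShortPres.SL2Gen
import Cfsg.Agent.SpShortPres.Pres
import Cfsg.Agent.Classical.LinearBasic
import Cfsg.Agent.Classical.ExcSmall
import Cfsg.Agent.Classical.SmallPSL
import Cfsg.Agent.CurtisTitsA.Main

/-!
# Two generators of `SL(m, F) × SL(2, F)` and of the block subgroup of `SL(m + 2, F)`
-/

set_option autoImplicit false

namespace Cfsg.Agent.OPlusPres

open Matrix Cfsg.Agent.SL2Pres
open SLMult (tx)
open scoped MatrixGroups commutatorElement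

universe u

variable {F : Type u} [Field F] [Fintype F]

/-- A noncentral normal subgroup of a perfect group with simple central quotient is everything. -/
theorem normal_top_sl {m : ℕ} (h : 3 ≤ m ∨ (2 ≤ m ∧ ∃ x : F, x ≠ 0 ∧ x ^ 2 ≠ 1))
    (P : Subgroup (SpecialLinearGroup (Fin m) F)) [hP : P.Normal] {g : SpecialLinearGroup (Fin m) F}
    (hg : g ∈ P) (hgc : g ∉ Subgroup.center (SpecialLinearGroup (Fin m) F)) : P = ⊤ := by
  have hs : IsSimpleGroup (Matrix.ProjectiveSpecialLinearGroup (Fin m) F) :=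
    Classical.isSimpleGroup_psl (by simpa using h)
  have hp : commutator (SpecialLinearGroup (Fin m) F) = ⊤ :=
    Classical.commutator_sl_eq_top (by simpa using h.imp id And.right)
  let q : SpecialLinearGroup (Fin m) F →* Matrix.ProjectiveSpecialLinearGroup (Fin m) F :=
    QuotientGroup.mk' _
  have hqs : Function.Surjective q := QuotientGroup.mk'_surjective _
  have hn : (P.map q).Normal := hP.map q hqs
  rcases hn.eq_bot_or_eq_top with h' | h'
  · refine absurd ?_ hgc
    have : q g ∈ P.map q := ⟨g, hg, rfl⟩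
    rw [h', Subgroup.mem_bot] at this
    exact (QuotientGroup.eq_one_iff g).mp this
  · rw [eq_top_iff, ← hp, commutator_def, Subgroup.commutator_le]
    intro x _ y _
    obtain ⟨p, hp', hpx⟩ := (h' ▸ Subgroup.mem_top (q x) : q x ∈ P.map q)
    have hc : p⁻¹ * x ∈ Subgroup.center _ := QuotientGroup.eq.mp hpx
    have hcy : ∀ w, (p⁻¹ * x) * w = w * (p⁻¹ * x) := fun w => (Subgroup.mem_center_iff.mp hc w).symm
    have e : ⁅x, y⁆ = p * (y * p⁻¹ * y⁻¹) := by
      have : x * y = p * y * (p⁻¹ * x) := by rw [mul_assoc, ← hcy y]; group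
      rw [commutatorElement_def, this]; group
    rw [e]
    exact mul_mem hp' (hP.conj_mem _ (inv_mem hp') y)

/-- Two generators of a product. -/
theorem pair_top {A B : Type*} [Group A] [Group B] {x1 x2 : A} {y1 y2 : B}
    (hA : Subgroup.closure ({x1, x2} : Set A) = ⊤) (hB : Subgroup.closure ({y1, y2} : Set B) = ⊤)
    (hN : ∀ P : Subgroup A, P.Normal → ∀ a ∈ P, a ∉ Subgroup.center A → P = ⊤) {k : ℕ}
    (hy : y1 ^ k = 1) (hx : x1 ^ k ∉ Subgroup.center A) :
    Subgroup.closure ({(x1, y1), (x2, y2)} : Set (A × B)) = ⊤ := by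
  set H := Subgroup.closure ({(x1, y1), (x2, y2)} : Set (A × B))
  have h1 : (x1, y1) ∈ H := Subgroup.subset_closure (Set.mem_insert _ _)
  have h2 : (x2, y2) ∈ H := Subgroup.subset_closure (Set.mem_insert_of_mem _ (Set.mem_singleton _))
  have hsur : ∀ a : A, ∃ b, (a, b) ∈ H := fun a => by
    have : a ∈ H.map (MonoidHom.fst A B) := by
      rw [MonoidHom.map_closure, Set.image_pair]
      show a ∈ Subgroup.closure ({x1, x2} : Set A)
      rw [hA]; exact Subgroup.mem_top a
    obtain ⟨⟨_, b⟩, hb, rfl⟩ := this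
    exact ⟨b, hb⟩
  let P : Subgroup A := H.comap (MonoidHom.inl A B)
  have hP : P.Normal := ⟨fun a ha g => by
    obtain ⟨b, hb⟩ := hsur g
    have := mul_mem (mul_mem hb ha) (inv_mem hb)
    simpa [P] using this⟩
  have hPt := hN P hP (x1 ^ k) (by
    show (x1 ^ k, (1 : B)) ∈ H
    rw [← hy]
    exact pow_mem h1 k) hx
  have hl : ∀ a, (a, (1 : B)) ∈ H := fun a => (hPt ▸ Subgroup.mem_top a : a ∈ P)
  have hr : ∀ b, ((1 : A), b) ∈ H := by
    have : H.comap (MonoidHom.inr A B) = ⊤ := by
      rw [eq_top_iff, ← hB, Subgroup.closure_le]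
      rintro _ (rfl | rfl) <;> show ((1 : A), _) ∈ H
      · simpa using mul_mem (inv_mem (hl x1)) h1
      · simpa using mul_mem (inv_mem (hl x2)) h2
    exact fun b => (this ▸ Subgroup.mem_top b : b ∈ H.comap (MonoidHom.inr A B))
  rw [eq_top_iff]
  rintro ⟨a, b⟩ -
  simpa using mul_mem (hl a) (hr b)

/-- A unipotent element stays noncentral after powers prime to the characteristic. -/
theorem unip_pow_notMem {m : ℕ} {u : SpecialLinearGroup (Fin m) F} (hu : IsNilpotent (u.1 - 1))
    (hu1 : u ≠ 1) {k : ℕ} (hk : (k : F) ≠ 0) : u ^ k ∉ Subgroup.center _ := by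
  intro hc
  obtain ⟨p, hp⟩ := CharP.exists F
  obtain ⟨n, hpp, -⟩ := FiniteField.card F p
  haveI : Fact p.Prime := ⟨hpp⟩
  rcases Nat.eq_zero_or_pos m with rfl | hm
  · exact hu1 (Subtype.ext (Subsingleton.elim _ _))
  haveI : Nonempty (Fin m) := ⟨⟨0, hm⟩⟩
  obtain ⟨N, hN⟩ := hu
  have hpe : u ^ p ^ N = 1 := by
    refine Subtype.ext ?_
    show (u ^ p ^ N).1 = 1
    rw [Matrix.SpecialLinearGroup.coe_pow]
    have h := sub_pow_char_pow_of_commute p N (Commute.one_right u.1)
    rw [one_pow] at h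
    have h0 : (u.1 - 1) ^ p ^ N = 0 := pow_eq_zero_of_le (Nat.lt_pow_self hpp.one_lt).le hN
    rw [h0] at h
    exact sub_eq_zero.1 h.symm
  have hcop : Nat.Coprime k (p ^ N) := by
    refine Nat.Coprime.pow_right N ?_
    rw [Nat.coprime_comm, hpp.coprime_iff_not_dvd]
    exact fun h => hk ((CharP.cast_eq_zero_iff F p k).2 h)
  have hmem : u ∈ Subgroup.center (SpecialLinearGroup (Fin m) F) := by
    obtain ⟨a, ha⟩ := exists_pow_eq_self_of_coprime (hcop.coprime_dvd_right (orderOf_dvd_of_pow_eq_one hpe))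
    rw [← ha]
    exact pow_mem hc a
  obtain ⟨r, -, hr⟩ := Matrix.SpecialLinearGroup.mem_center_iff.1 hmem
  have hr1 : (r - 1) ^ N = 0 := by
    have hd : (Matrix.scalar (Fin m) (r - 1)) ^ N = 0 := by
      rw [map_sub, map_one, hr]; exact hN
    rw [← map_pow] at hd
    have := congrFun (congrFun hd ⟨0, hm⟩) ⟨0, hm⟩
    simpa using this
  refine hu1 (Subtype.ext ?_)
  rw [← hr, sub_eq_zero.1 (pow_eq_zero_iff'.1 hr1).1, map_one]
  rfl

theorem sl2_g_cube : (uM 1 * wM : SL(2, F)) ^ 3 = 1 := by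
  ext i j
  fin_cases i <;> fin_cases j <;>
    simp [pow_succ, Matrix.SpecialLinearGroup.coe_mul, Matrix.mul_apply, Fin.sum_univ_two, uM_coe,
      wM_coe]

theorem small_pair (hq : Fintype.card F < 4) :
    ∃ s : SL(2, F), Subgroup.closure ({uM 1, s} : Set SL(2, F)) = ⊤ ∧
      s ^ (Fintype.card F + 1) = 1 := by
  obtain ⟨ν, hν⟩ := SL2Pres.exists_gen_unit F
  have h1 : 1 < Fintype.card F := Fintype.one_lt_card
  have hw : Subgroup.closure ({uM 1, wM} : Set SL(2, F)) = ⊤ := by
    rw [eq_top_iff, ← gens_closure hν, Subgroup.closure_le]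
    have hw : (wM : SL(2, F)) ∈ Subgroup.closure ({uM 1, wM} : Set SL(2, F)) :=
      Subgroup.subset_closure (Set.mem_insert_of_mem _ (Set.mem_singleton _))
    rintro x (rfl | rfl | rfl)
    · exact Subgroup.subset_closure (Set.mem_insert _ _)
    · have h2 : ν ^ 2 = 1 := by
        have := pow_orderOf_eq_one ν
        rw [hν] at this
        rcases (show Fintype.card F - 1 = 1 ∨ Fintype.card F - 1 = 2 by omega) with h | h
        · rw [h, pow_one] at this
          rw [this, one_pow]
        · rwa [h] at this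
      rcases mul_self_eq_one_iff.mp (show (ν : F) * ν = 1 by
          rw [← Units.val_mul, ← sq, h2, Units.val_one]) with h | h
      · rw [show ν = 1 from Units.ext h, show dM (1 : Fˣ) = 1 from map_one dHom]
        exact one_mem _
      · have : dM ν = wM * (wM : SL(2, F)) := by
          ext i j
          fin_cases i <;> fin_cases j <;>
            simp [Matrix.SpecialLinearGroup.coe_mul, Matrix.mul_apply, Fin.sum_univ_two, dM_coe, wM_coe, h]
        rw [this]
        exact mul_mem hw hw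
    · exact hw
  rcases (show Fintype.card F = 2 ∨ Fintype.card F = 3 by omega) with h | h
  · refine ⟨uM 1 * wM, ?_, by rw [h]; exact sl2_g_cube⟩
    rw [eq_top_iff, ← hw, Subgroup.closure_le]
    have hu : (uM 1 : SL(2, F)) ∈ Subgroup.closure ({uM 1, uM 1 * wM} : Set SL(2, F)) :=
      Subgroup.subset_closure (Set.mem_insert _ _)
    rintro x (rfl | rfl)
    · exact hu
    · simpa using mul_mem (inv_mem hu)
        (Subgroup.subset_closure (Set.mem_insert_of_mem _ (Set.mem_singleton _)) :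
          uM 1 * wM ∈ Subgroup.closure ({uM 1, uM 1 * wM} : Set SL(2, F)))
  · refine ⟨wM, hw, ?_⟩
    rw [h]
    ext i j
    fin_cases i <;> fin_cases j <;>
      simp [pow_succ, Matrix.SpecialLinearGroup.coe_mul, Matrix.mul_apply, Fin.sum_univ_two, wM_coe]

theorem cast_succ_card : ((Fintype.card F + 1 : ℕ) : F) ≠ 0 := by
  rw [Nat.cast_add, FiniteField.cast_card_eq_zero, zero_add, Nat.cast_one]
  exact one_ne_zero

/-- `SL(m, F)` has generators, the first unipotent. -/
theorem sl_unip_pair {m : ℕ} (hm : 3 ≤ m) :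
    ∃ u x : SpecialLinearGroup (Fin m) F, IsNilpotent (u.1 - 1) ∧ u ≠ 1 ∧
      Subgroup.closure ({u, x} : Set (SpecialLinearGroup (Fin m) F)) = ⊤ := by
  rcases (show m = 3 ∨ 4 ≤ m by omega) with rfl | h
  · obtain ⟨a, g, h⟩ := RegGen.three_generate (F := F)
    refine ⟨RegGen.regU 3 F, a⁻¹ * (g * (a * RegGen.regU 3 F * a⁻¹) * g⁻¹) * a,
      RegGen.regU_isNilpotent, fun e => RegGen.regU_pow_ne (F := F) (n := 3) (by omega) ?_, ?_⟩
    · rw [e, Matrix.SpecialLinearGroup.coe_one, sub_self, zero_pow (by omega)]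
    · have := congrArg (Subgroup.map (MulAut.conj a⁻¹).toMonoidHom) h
      rw [MonoidHom.map_closure, Set.image_pair,
        Subgroup.map_top_of_surjective _ (MulAut.conj a⁻¹).surjective] at this
      convert this using 3 <;> simp [MulAut.conj_apply, mul_assoc]
  · obtain ⟨d, rfl⟩ : ∃ d, m = d + 2 := ⟨m - 2, by omega⟩
    obtain ⟨u, ⟨hu, hu'⟩, h⟩ := (Cfsg.Agent.S2279.two_generate (F := F) d (by omega)).1
    refine ⟨u, _, hu, fun e => hu' ?_, h⟩
    rw [e, Matrix.SpecialLinearGroup.coe_one, sub_self, zero_pow (by omega)]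

/-- `SL(m, F) × SL(2, F)` is generated by two elements. -/
theorem prod_pair {m : ℕ} (hm : 2 ≤ m) :
    ∃ p q : SpecialLinearGroup (Fin m) F × SL(2, F), Subgroup.closure ({p, q} : Set _) = ⊤ := by
  obtain ⟨ν, hν⟩ := SL2Pres.exists_gen_unit F
  rcases le_or_gt 4 (Fintype.card F) with hq | hq
  · have hc : ∃ x : F, x ≠ 0 ∧ x ^ 2 ≠ 1 := Classical.Small.exists_sq_ne_one hq
    have hg := ShortPres.sl_two_gen hq hν
    rcases eq_or_lt_of_le hm with rfl | hm3
    · refine ⟨(dM ν * (uM 1 * wM), uM 1 * wM), (dM ν, dM ν), pair_top (k := 3) ?_ ?_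
        (fun P hP a ha hac => normal_top_sl (Or.inr ⟨le_rfl, hc⟩) P ha hac) sl2_g_cube ?_⟩
      · rw [eq_top_iff, ← hg, Subgroup.closure_le]
        have hd : dM ν ∈ Subgroup.closure ({dM ν * (uM 1 * wM), dM ν} : Set SL(2, F)) :=
          Subgroup.subset_closure (Set.mem_insert_of_mem _ (Set.mem_singleton _))
        rintro x (rfl | rfl)
        · exact hd
        · simpa using mul_mem (inv_mem hd) (Subgroup.subset_closure (Set.mem_insert _ _) :
            dM ν * (uM 1 * wM) ∈ Subgroup.closure ({dM ν * (uM 1 * wM), dM ν} : Set SL(2, F)))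
      · rw [Set.pair_comm]; exact hg
      · intro h
        obtain ⟨r, -, hr⟩ := Matrix.SpecialLinearGroup.mem_center_iff.1 h
        have e := congrFun (congrFun hr 0) 1
        simp [pow_succ, Matrix.SpecialLinearGroup.coe_mul, Matrix.mul_apply, Fin.sum_univ_two, dM_coe,
          uM_coe, wM_coe] at e
        have hν0 : (ν : F) ≠ 0 := ν.ne_zero
        have hne : (ν : F) ^ 2 ≠ 1 := by
          intro e2
          have : orderOf ν ∣ 2 := orderOf_dvd_of_pow_eq_one (Units.ext (by simpa using e2))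
          have := Nat.le_of_dvd (by norm_num) this
          omega
        field_simp at e
        exact hne (by linear_combination e)
    · obtain ⟨u, x, hu, hu1, h⟩ := sl_unip_pair (F := F) (m := m) hm3
      refine ⟨(u, dM ν), (x, uM 1 * wM), pair_top (k := Fintype.card F - 1) h hg
        (fun P hP a ha hac => normal_top_sl (Or.inl hm3) P ha hac) ?_ (unip_pow_notMem hu hu1 ?_)⟩
      · rw [← hν, ← SL2Pres.dM_pow, pow_orderOf_eq_one]; exact map_one dHom
      · rw [Nat.cast_sub (by omega), FiniteField.cast_card_eq_zero, zero_sub, Nat.cast_one]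
        exact neg_ne_zero.2 one_ne_zero
  obtain ⟨s, hs, hsk⟩ := small_pair hq
  rcases eq_or_lt_of_le hm with rfl | hm3
  · refine ⟨(uM 1, s), (s, uM 1), ?_⟩
    set H := Subgroup.closure ({(uM 1, s), (s, uM 1)} : Set (SL(2, F) × SL(2, F)))
    set k := Fintype.card F + 1
    obtain ⟨p, hp⟩ := CharP.exists F
    obtain ⟨n, hpp, -⟩ := FiniteField.card F p
    have hup : (uM 1 : SL(2, F)) ^ p = 1 := by
      have : ∀ j : ℕ, (uM 1 : SL(2, F)) ^ j = uM (j : F) := fun j => by
        induction j with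
        | zero => simp [uM_zero]
        | succ j ih => rw [pow_succ, ih, ← uM_add, Nat.cast_succ]
      rw [this, CharP.cast_eq_zero, uM_zero]
    have hcop : Nat.Coprime k (orderOf (uM (1 : F))) := by
      refine Nat.Coprime.coprime_dvd_right (orderOf_dvd_of_pow_eq_one hup) ?_
      rw [Nat.coprime_comm, hpp.coprime_iff_not_dvd]
      exact fun h => cast_succ_card (F := F) ((CharP.cast_eq_zero_iff F p k).2 h)
    obtain ⟨a, ha⟩ := exists_pow_eq_self_of_coprime hcop
    have h1 : (uM 1, s) ∈ H := Subgroup.subset_closure (Set.mem_insert _ _)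
    have h2 : (s, uM 1) ∈ H := Subgroup.subset_closure (Set.mem_insert_of_mem _ (Set.mem_singleton _))
    have e1 : (uM 1, (1 : SL(2, F))) ∈ H := by
      have := pow_mem (pow_mem h1 k) a
      simpa [hsk, ha] using this
    have e2 : ((1 : SL(2, F)), uM 1) ∈ H := by
      have := pow_mem (pow_mem h2 k) a
      simpa [hsk, ha] using this
    have e3 : (s, (1 : SL(2, F))) ∈ H := by simpa using mul_mem h2 (inv_mem e2)
    have e4 : ((1 : SL(2, F)), s) ∈ H := by simpa using mul_mem (inv_mem e1) h1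
    have hl : H.comap (MonoidHom.inl SL(2, F) SL(2, F)) = ⊤ := by
      rw [eq_top_iff, ← hs, Subgroup.closure_le]
      rintro _ (rfl | rfl)
      exacts [e1, e3]
    have hr : H.comap (MonoidHom.inr SL(2, F) SL(2, F)) = ⊤ := by
      rw [eq_top_iff, ← hs, Subgroup.closure_le]
      rintro _ (rfl | rfl)
      exacts [e2, e4]
    rw [eq_top_iff]
    rintro ⟨x, y⟩ -
    have hx : (x, (1 : SL(2, F))) ∈ H := (hl ▸ Subgroup.mem_top x : x ∈ H.comap (MonoidHom.inl _ _))
    have hy : ((1 : SL(2, F)), y) ∈ H := (hr ▸ Subgroup.mem_top y : y ∈ H.comap (MonoidHom.inr _ _))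
    simpa using mul_mem hx hy
  · obtain ⟨u, x, hu, hu1, h⟩ := sl_unip_pair (F := F) (m := m) hm3
    refine ⟨(u, s), (x, uM 1), pair_top (k := Fintype.card F + 1) h ?_
      (fun P hP a ha hac => normal_top_sl (Or.inl hm3) P ha hac) hsk
      (unip_pow_notMem hu hu1 cast_succ_card)⟩
    rw [Set.pair_comm]; exact hs

/-- The block subgroup with blocks `{a, b}` and the rest. -/
def Msub {n : ℕ} (a b : Fin n) : Subgroup (SpecialLinearGroup (Fin n) F) :=
  Subgroup.closure {x | ∃ i j t, i ≠ j ∧ ((i = a ∨ i = b) ↔ (j = a ∨ j = b)) ∧ x = tx i j t}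

omit [Fintype F] in
theorem tx_mem_Msub {n : ℕ} {a b i j : Fin n} (h : i ≠ j) (h' : (i = a ∨ i = b) ↔ (j = a ∨ j = b))
    (t : F) : tx i j t ∈ Msub a b := Subgroup.subset_closure ⟨i, j, t, h, h', rfl⟩

/-- The block homomorphism. -/
noncomputable def blockDiag (m : ℕ) :
    SpecialLinearGroup (Fin m) F × SL(2, F) →* SpecialLinearGroup (Fin (m + 2)) F where
  toFun p := ⟨Matrix.reindex finSumFinEquiv finSumFinEquiv (Matrix.fromBlocks p.1.1 0 0 p.2.1), by
    rw [Matrix.det_reindex_self, Matrix.det_fromBlocks_zero₂₁, p.1.2, p.2.2, mul_one]⟩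
  map_one' := Subtype.ext (by
    show Matrix.reindex finSumFinEquiv finSumFinEquiv (Matrix.fromBlocks 1 0 0 1) = 1
    simp [Matrix.fromBlocks_one])
  map_mul' p q := Subtype.ext (by
    show Matrix.reindex _ _ (Matrix.fromBlocks (p.1.1 * q.1.1) 0 0 (p.2.1 * q.2.1)) =
      Matrix.reindex _ _ _ * Matrix.reindex _ _ _
    rw [Matrix.reindex_apply, Matrix.reindex_apply, Matrix.reindex_apply,
      Matrix.submatrix_mul_equiv, Matrix.fromBlocks_multiply]
    simp)

omit [Fintype F] in
theorem blockDiag_left (m : ℕ) {i j : Fin m} (h : i ≠ j) (t : F) :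
    blockDiag m (tx i j t, 1) = tx (Fin.castAdd 2 i) (Fin.castAdd 2 j) t := by
  refine Subtype.ext (Matrix.ext fun r c => ?_)
  rw [SLMult.tx_eq h, SLMult.tx_eq (fun e => h (Fin.castAdd_injective _ _ e))]
  show Matrix.reindex finSumFinEquiv finSumFinEquiv (Matrix.fromBlocks
    (Matrix.SpecialLinearGroup.transvection h t : SpecialLinearGroup (Fin m) F).1 0 0
    (1 : SL(2, F)).1) r c = _
  simp only [Matrix.SpecialLinearGroup.transvection_coe,
    Matrix.SpecialLinearGroup.coe_one, Matrix.reindex_apply, Matrix.submatrix_apply]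
  refine Fin.addCases (fun r => ?_) (fun r => ?_) r <;> refine Fin.addCases (fun c => ?_) (fun c => ?_) c <;>
    simp [Matrix.one_apply, Matrix.single_apply, Fin.ext_iff] <;> (try split_ifs) <;> simp_all <;> omega

omit [Fintype F] in
theorem blockDiag_right (m : ℕ) {i j : Fin 2} (h : i ≠ j) (t : F) :
    blockDiag m (1, tx i j t) = tx (Fin.natAdd m i) (Fin.natAdd m j) t := by
  refine Subtype.ext (Matrix.ext fun r c => ?_)
  rw [SLMult.tx_eq h, SLMult.tx_eq (fun e => h (Fin.natAdd_injective _ _ e))]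
  show Matrix.reindex finSumFinEquiv finSumFinEquiv (Matrix.fromBlocks
    (1 : SpecialLinearGroup (Fin m) F).1 0 0
    (Matrix.SpecialLinearGroup.transvection h t : SL(2, F)).1) r c = _
  simp only [Matrix.SpecialLinearGroup.transvection_coe,
    Matrix.SpecialLinearGroup.coe_one, Matrix.reindex_apply, Matrix.submatrix_apply]
  refine Fin.addCases (fun r => ?_) (fun r => ?_) r <;> refine Fin.addCases (fun c => ?_) (fun c => ?_) c <;>
    simp [Matrix.one_apply, Matrix.single_apply, Fin.ext_iff] <;> (try split_ifs) <;> simp_all <;> omega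

/-- Two generators of the block subgroup. -/
theorem Msub_pair {m : ℕ} (hm : 2 ≤ m) :
    ∃ p q : SpecialLinearGroup (Fin (m + 2)) F,
      Subgroup.closure ({p, q} : Set _) =
        Msub (Fin.natAdd m (0 : Fin 2)) (Fin.natAdd m (1 : Fin 2)) := by
  obtain ⟨p, q, h⟩ := prod_pair (F := F) hm
  refine ⟨blockDiag m p, blockDiag m q, ?_⟩
  rw [← Set.image_pair, ← MonoidHom.map_closure, h, ← MonoidHom.range_eq_map]
  have hab : ∀ i : Fin m, ¬ (Fin.castAdd 2 i = Fin.natAdd m (0 : Fin 2) ∨
      Fin.castAdd 2 i = Fin.natAdd m (1 : Fin 2)) := fun i => by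
    rintro (e | e) <;> simp [Fin.ext_iff] at e <;> omega
  have hab' : ∀ i : Fin 2, Fin.natAdd m i = Fin.natAdd m (0 : Fin 2) ∨
      Fin.natAdd m i = Fin.natAdd m (1 : Fin 2) := fun i => by fin_cases i <;> simp
  refine le_antisymm ?_ ((Subgroup.closure_le _).2 ?_)
  · rintro _ ⟨⟨x, y⟩, rfl⟩
    have e : blockDiag m (x, y) = blockDiag m (x, 1) * blockDiag m (1, y) := by
      rw [← map_mul, Prod.mk_mul_mk, mul_one, one_mul]
    rw [e]
    refine mul_mem ?_ ?_
    · have ht : (Msub (Fin.natAdd m (0 : Fin 2)) (Fin.natAdd m (1 : Fin 2))).comap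
          ((blockDiag m).comp (MonoidHom.inl _ SL(2, F))) = ⊤ :=
        Classical.sl_eq_top_of_transvection _ fun i j hij c => by
          rw [← SLMult.tx_eq hij]
          show blockDiag m (tx i j c, 1) ∈ Msub (Fin.natAdd m (0 : Fin 2)) (Fin.natAdd m (1 : Fin 2))
          rw [blockDiag_left m hij]
          exact tx_mem_Msub (fun e => hij (Fin.castAdd_injective _ _ e))
            (iff_of_false (hab i) (hab j)) c
      exact (ht ▸ Subgroup.mem_top x : x ∈ _)
    · have ht : (Msub (Fin.natAdd m (0 : Fin 2)) (Fin.natAdd m (1 : Fin 2))).comap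
          ((blockDiag m).comp (MonoidHom.inr (SpecialLinearGroup (Fin m) F) _)) = ⊤ :=
        Classical.sl_eq_top_of_transvection _ fun i j hij c => by
          rw [← SLMult.tx_eq hij]
          show blockDiag m (1, tx i j c) ∈ Msub (Fin.natAdd m (0 : Fin 2)) (Fin.natAdd m (1 : Fin 2))
          rw [blockDiag_right m hij]
          exact tx_mem_Msub (fun e => hij (Fin.natAdd_injective _ _ e))
            (iff_of_true (hab' i) (hab' j)) c
      exact (ht ▸ Subgroup.mem_top y : y ∈ _)
  · rintro _ ⟨i, j, t, hij, hiff, rfl⟩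
    revert hij hiff
    refine Fin.addCases (fun i => ?_) (fun i => ?_) i <;>
      refine Fin.addCases (fun j => ?_) (fun j => ?_) j <;> intro hij hiff
    · exact ⟨(tx i j t, 1), blockDiag_left m (fun e => hij (by rw [e])) t⟩
    · exact absurd (hiff.2 (hab' j)) (hab i)
    · exact absurd (hiff.1 (hab' i)) (hab j)
    · exact ⟨(1, tx i j t), blockDiag_right m (fun e => hij (by rw [e])) t⟩

end Cfsg.Agent.OPlusPres
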