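import Cfsg.Agent.OPlusPres.Model

/-!
# The root elements `ε_i + ε_j` spanned by one seed
-/

set_option autoImplicit false
set_option maxHeartbeats 800000
set_option linter.unusedSimpArgs false
set_option linter.unusedSectionVars false

open Matrix
open scoped MatrixGroups commutatorElement

namespace Cfsg.Agent.OPlusPres

open CurtisTitsD
open CurtisTitsA (emb emb_act)
open SLMult (tx)

universe u

variable {F : Type u} [Field F] [Fintype F] {n : ℕ}

/-- A monomial element with a prescribed permutation and at most one nontrivial weight. -/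
theorem exists_monoP (τ : Equiv.Perm (Fin n)) (s0 : Fin n) :
    ∃ (g : SpecialLinearGroup (Fin n) F) (w : Fin n → F), Mono g τ w ∧ ∀ s, s ≠ s0 → w s = 1 := by
  let e : F := ((Equiv.Perm.sign τ.symm : ℤ) : F)
  have he : e * e = 1 := by
    rcases Int.units_eq_one_or (Equiv.Perm.sign τ.symm) with h | h <;> simp only [e, h] <;> simp
  let W : Fin n → F := Function.update (fun _ => 1) s0 e
  have hdet : ((diagonal W).submatrix τ.symm id).det = 1 := by
    rw [Matrix.det_permute, det_diagonal, Finset.prod_update_of_mem (Finset.mem_univ s0),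
      Finset.prod_const_one, mul_one]
    exact he
  refine ⟨⟨_, hdet⟩, W, ⟨fun s => ?_, fun s => ?_⟩, fun s hs => Function.update_of_ne hs _ _⟩
  · by_cases h : s = s0
    · subst h
      simp only [W, Function.update_self]
      exact left_ne_zero_of_mul (by rw [he]; exact one_ne_zero)
    · simp [W, Function.update_of_ne h]
  · rw [Matrix.mulVec_single_one]
    ext r
    show diagonal W (τ.symm r) s = _
    by_cases h : r = τ s
    · subst h; simp
    · rw [Pi.single_eq_of_ne h, diagonal_apply_ne _ (fun e => h (by rw [← e, Equiv.apply_symm_apply]))]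

theorem exists_perm4 {a b c d i j k l : Fin n} (hab : a ≠ b) (hac : a ≠ c) (hbc : b ≠ c)
    (had : a ≠ d) (hbd : b ≠ d) (hcd : c ≠ d) (hij : i ≠ j) (hik : i ≠ k) (hjk : j ≠ k) (hil : i ≠ l)
    (hjl : j ≠ l) (hkl : k ≠ l) :
    ∃ τ : Equiv.Perm (Fin n), τ a = i ∧ τ b = j ∧ τ c = k ∧ τ d = l := by
  obtain ⟨τ, h1, h2, h3⟩ := exists_perm3 hab hac hbc hij hik hjk
  refine ⟨τ.trans (Equiv.swap (τ d) l), ?_, ?_, ?_, Equiv.swap_apply_left _ _⟩
  · rw [Equiv.trans_apply, Equiv.swap_apply_of_ne_of_ne (τ.injective.ne had) (by rw [h1]; exact hil), h1]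
  · rw [Equiv.trans_apply, Equiv.swap_apply_of_ne_of_ne (τ.injective.ne hbd) (by rw [h2]; exact hjl), h2]
  · rw [Equiv.trans_apply, Equiv.swap_apply_of_ne_of_ne (τ.injective.ne hcd) (by rw [h3]; exact hkl), h3]

/-- A seed for the root elements of one sign. -/
structure Layer (F : Type u) [Field F] {n : ℕ} (I : Ix n) (H : Type*) [Group H] where
  /-- the linear part -/
  A : SpecialLinearGroup (Fin n) F →* H
  /-- the seed -/
  Z0 : F → H
  add : ∀ s t, Z0 (s + t) = Z0 s * Z0 t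
  ab : ∀ s t, Commute (A (tx I.a I.b s)) (Z0 t)
  ba : ∀ s t, Commute (A (tx I.b I.a s)) (Z0 t)
  stab : ∀ i j, i ≠ j → j ≠ I.a → j ≠ I.b → ∀ s t, Commute (A (tx i j s)) (Z0 t)
  scale : ∀ t : F, t ≠ 0 → ∃ g : SpecialLinearGroup (Fin n) F,
    g.1 *ᵥ Pi.single I.a 1 = Pi.single I.a t ∧ g.1 *ᵥ Pi.single I.b 1 = Pi.single I.b 1 ∧
      A g * Z0 1 * (A g)⁻¹ = Z0 t

namespace Layer

variable {I : Ix n} {H : Type*} [Group H] (D : Layer F I H)

theorem Z0_zero : D.Z0 0 = 1 := by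
  have := D.add 0 0
  rw [add_zero] at this
  exact left_eq_mul.1 this

open scoped _root_.Classical in
/-- The root element of a pair of vectors. -/
noncomputable def Z (v w : Fin n → F) : H :=
  if h : ∃ g : SpecialLinearGroup (Fin n) F, g.1 *ᵥ Pi.single I.a 1 = v ∧ g.1 *ᵥ Pi.single I.b 1 = w
  then D.A h.choose * D.Z0 1 * (D.A h.choose)⁻¹ else 1

/-- The root elements. -/
noncomputable def Y (i j : Fin n) (t : F) : H := D.Z (Pi.single i t) (Pi.single j 1)

theorem Z_eq (g : SpecialLinearGroup (Fin n) F) :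
    D.Z (g.1 *ᵥ Pi.single I.a 1) (g.1 *ᵥ Pi.single I.b 1) = D.A g * D.Z0 1 * (D.A g)⁻¹ := by
  have hex : ∃ g' : SpecialLinearGroup (Fin n) F, g'.1 *ᵥ Pi.single I.a 1 = g.1 *ᵥ Pi.single I.a 1 ∧
      g'.1 *ᵥ Pi.single I.b 1 = g.1 *ᵥ Pi.single I.b 1 := ⟨g, rfl, rfl⟩
  rw [Z, dif_pos hex]
  obtain ⟨h1, h2⟩ := hex.choose_spec
  set g' := hex.choose
  have hc : Commute (D.A (g⁻¹ * g')) (D.Z0 1) := by
    have hfix : ∀ v, g'.1 *ᵥ v = g.1 *ᵥ v → (g⁻¹ * g').1 *ᵥ v = v := fun v hv => by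
      rw [mulVec_mul', hv, ← mulVec_mul', inv_mul_cancel, Matrix.SpecialLinearGroup.coe_one,
        Matrix.one_mulVec]
    exact Subgroup.mem_centralizer_singleton_iff.1 (fix2_mem I.hab I.three
      ((Subgroup.centralizer {D.Z0 1}).comap D.A)
      (fun i j hij hja hjb t => Subgroup.mem_centralizer_singleton_iff.2 (D.stab i j hij hja hjb t 1).eq)
      (hfix _ h1) (hfix _ h2))
  calc D.A g' * D.Z0 1 * (D.A g')⁻¹
      = D.A g * (D.A (g⁻¹ * g') * D.Z0 1 * (D.A (g⁻¹ * g'))⁻¹) * (D.A g)⁻¹ := by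
        rw [map_mul, map_inv]; group
    _ = _ := by rw [hc.eq, mul_inv_cancel_right]

theorem conj_Z (g : SpecialLinearGroup (Fin n) F) (v w : Fin n → F) :
    D.A g * D.Z v w * (D.A g)⁻¹ = D.Z (g.1 *ᵥ v) (g.1 *ᵥ w) := by
  by_cases h : ∃ g : SpecialLinearGroup (Fin n) F, g.1 *ᵥ Pi.single I.a 1 = v ∧ g.1 *ᵥ Pi.single I.b 1 = w
  · obtain ⟨g', rfl, rfl⟩ := h
    rw [← mulVec_mul', ← mulVec_mul', D.Z_eq, D.Z_eq, map_mul]; group
  · have h' : ¬ ∃ g' : SpecialLinearGroup (Fin n) F,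
        g'.1 *ᵥ Pi.single I.a 1 = g.1 *ᵥ v ∧ g'.1 *ᵥ Pi.single I.b 1 = g.1 *ᵥ w := by
      rintro ⟨g', h1, h2⟩
      refine h ⟨g⁻¹ * g', ?_, ?_⟩
      · rw [mulVec_mul', h1, ← mulVec_mul', inv_mul_cancel, Matrix.SpecialLinearGroup.coe_one,
          Matrix.one_mulVec]
      · rw [mulVec_mul', h2, ← mulVec_mul', inv_mul_cancel, Matrix.SpecialLinearGroup.coe_one,
          Matrix.one_mulVec]
    rw [Z, dif_neg h, Z, dif_neg h']; group

theorem Z_zero (w : Fin n → F) (v : Fin n → F) (h : v = 0 ∨ w = 0) : D.Z v w = 1 := by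
  refine dif_neg ?_
  rintro ⟨g, h1, h2⟩
  have key : ∀ s, g.1 *ᵥ Pi.single s (1 : F) ≠ 0 := fun s e => by
    have e' := congrArg (fun v => (g⁻¹).1 *ᵥ v) e
    simp only [← mulVec_mul', inv_mul_cancel, Matrix.SpecialLinearGroup.coe_one, Matrix.one_mulVec,
      Matrix.mulVec_zero] at e'
    simpa using congrFun e' s
  rcases h with h | h
  · exact key _ (h1.trans h)
  · exact key _ (h2.trans h)

theorem Y_zero (i j : Fin n) : D.Y i j 0 = 1 := D.Z_zero _ _ (Or.inl (Pi.single_zero i))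

theorem Y_ab (t : F) : D.Y I.a I.b t = D.Z0 t := by
  by_cases ht : t = 0
  · rw [ht, Y_zero, Z0_zero]
  obtain ⟨g, g1, g2, g3⟩ := D.scale t ht
  rw [← g3, ← D.Z_eq, g1, g2]; rfl

theorem Z_sl2 (g : SpecialLinearGroup (Fin n) F) (h : SL(2, F)) :
    D.Z (g.1 *ᵥ (Pi.single I.a (h.1 0 0) + Pi.single I.b (h.1 1 0)))
      (g.1 *ᵥ (Pi.single I.a (h.1 0 1) + Pi.single I.b (h.1 1 1))) =
      D.Z (g.1 *ᵥ Pi.single I.a 1) (g.1 *ᵥ Pi.single I.b 1) := by
  have hab := I.hab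
  have hc : Commute (D.A (emb hab h)) (D.Z0 1) :=
    Subgroup.mem_centralizer_singleton_iff.1 (emb_mem_of hab
      ((Subgroup.centralizer {D.Z0 1}).comap D.A)
      (fun t => Subgroup.mem_centralizer_singleton_iff.2 (D.ab t 1).eq)
      (fun t => Subgroup.mem_centralizer_singleton_iff.2 (D.ba t 1).eq) h)
  have hcol : ∀ s, (emb hab h).1 *ᵥ Pi.single s 1 =
      (if s = I.a then Pi.single I.a (h.1 0 0) + Pi.single I.b (h.1 1 0) else
        if s = I.b then Pi.single I.a (h.1 0 1) + Pi.single I.b (h.1 1 1) else Pi.single s 1) := by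
    intro s
    obtain ⟨a1, a2, a3⟩ := emb_act hab h (Pi.single s (1 : F))
    ext r
    by_cases hra : r = I.a
    · subst hra
      rw [a1]
      by_cases hsa : s = I.a
      · subst hsa; simp [hab, hab.symm]
      by_cases hsb : s = I.b
      · subst hsb; simp [hab, hab.symm]
      simp [hsa, hsb, Ne.symm hsa, Ne.symm hsb]
    by_cases hrb : r = I.b
    · subst hrb
      rw [a2]
      by_cases hsa : s = I.a
      · subst hsa; simp [hab, hab.symm]
      by_cases hsb : s = I.b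
      · subst hsb; simp [hab, hab.symm]
      simp [hsa, hsb, Ne.symm hsa, Ne.symm hsb]
    rw [a3 r hra hrb]
    split_ifs with hsa hsb
    · subst hsa; simp [hra, hrb]
    · subst hsb; simp [hra, hrb]
    · rfl
  have e := D.Z_eq (g * emb hab h)
  rw [mulVec_mul', mulVec_mul', hcol, hcol, if_pos rfl, if_neg hab.symm, if_pos rfl] at e
  rw [e, D.Z_eq, map_mul]
  calc D.A g * D.A (emb hab h) * D.Z0 1 * (D.A g * D.A (emb hab h))⁻¹
      = D.A g * (D.A (emb hab h) * D.Z0 1 * (D.A (emb hab h))⁻¹) * (D.A g)⁻¹ := by group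
    _ = _ := by rw [hc.eq, mul_inv_cancel_right]

include D in
theorem exists_third (i j : Fin n) : ∃ k, i ≠ k ∧ j ≠ k := by
  obtain ⟨k, hk⟩ := SLMult.exists_index ({i, j} : Finset (Fin n)) Finset.card_le_two
    (by rw [Fintype.card_fin]; have := I.hn; omega)
  simp only [Finset.mem_insert, Finset.mem_singleton, not_or] at hk
  exact ⟨k, Ne.symm hk.1, Ne.symm hk.2⟩

include D in
theorem exists_mono2 {i j : Fin n} (hij : i ≠ j) {x y : F} (hx : x ≠ 0) (hy : y ≠ 0) :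
    ∃ g : SpecialLinearGroup (Fin n) F, g.1 *ᵥ Pi.single I.a 1 = Pi.single i x ∧
      g.1 *ᵥ Pi.single I.b 1 = Pi.single j y := by
  obtain ⟨k, hik, hjk⟩ := D.exists_third i j
  obtain ⟨g, g1, g2, -⟩ := exists_mono3 I.hab I.hac I.hbc I.had.symm I.hbd.symm I.hcd.symm hij hik hjk
    hx hy (one_ne_zero (α := F))
  exact ⟨g, g1, g2⟩

theorem Y_swap {i j : Fin n} (hij : i ≠ j) (t : F) : D.Y j i t = D.Y i j (-t) := by
  by_cases ht : t = 0
  · rw [ht, neg_zero, D.Y_zero, D.Y_zero]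
  obtain ⟨g, g1, g2⟩ := D.exists_mono2 hij (x := -t) (y := 1) (neg_ne_zero.2 ht) one_ne_zero
  have hM : (!![0, -t⁻¹; t, 0] : Matrix (Fin 2) (Fin 2) F).det = 1 := by
    rw [Matrix.det_fin_two_of]; field_simp; ring
  have := D.Z_sl2 g ⟨_, hM⟩
  rw [g1, g2] at this
  simp only [Matrix.of_apply, Matrix.cons_val', Matrix.cons_val_zero, Matrix.cons_val_one,
    Matrix.empty_val', Matrix.cons_val_fin_one, Pi.single_zero, zero_add, add_zero] at this
  rw [mulVec_single' g I.b t, g2, mulVec_single' g I.a (-t⁻¹), g1, ← Pi.single_smul, ← Pi.single_smul,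
    smul_eq_mul, smul_eq_mul, mul_one, neg_mul_neg, inv_mul_cancel₀ ht] at this
  exact this

theorem Z_single {i j : Fin n} (hij : i ≠ j) (x y : F) :
    D.Z (Pi.single i x) (Pi.single j y) = D.Y i j (x * y) := by
  by_cases hy : y = 0
  · rw [hy, mul_zero, D.Y_zero]; exact D.Z_zero _ _ (Or.inr (Pi.single_zero j))
  by_cases hx : x = 0
  · rw [hx, zero_mul, D.Y_zero]; exact D.Z_zero _ _ (Or.inl (Pi.single_zero i))
  obtain ⟨g, g1, g2⟩ := D.exists_mono2 hij hx hy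
  have hM : (!![y, 0; 0, y⁻¹] : Matrix (Fin 2) (Fin 2) F).det = 1 := by
    rw [Matrix.det_fin_two_of]; field_simp; ring
  have := D.Z_sl2 g ⟨_, hM⟩
  rw [g1, g2] at this
  simp only [Matrix.of_apply, Matrix.cons_val', Matrix.cons_val_zero, Matrix.cons_val_one,
    Matrix.empty_val', Matrix.cons_val_fin_one, Pi.single_zero, zero_add, add_zero] at this
  rw [mulVec_single' g I.a y, g1, mulVec_single' g I.b y⁻¹, g2, ← Pi.single_smul, ← Pi.single_smul,
    smul_eq_mul, smul_eq_mul, inv_mul_cancel₀ hy] at this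
  rw [← this, mul_comm y x]; rfl

theorem conj_Y {g : SpecialLinearGroup (Fin n) F} {τ : Equiv.Perm (Fin n)} {w : Fin n → F}
    (hg : Mono g τ w) {i j : Fin n} (hij : i ≠ j) (t : F) :
    D.A g * D.Y i j t * (D.A g)⁻¹ = D.Y (τ i) (τ j) (w i * w j * t) := by
  rw [Y, D.conj_Z, hg.act, hg.act, D.Z_single (τ.injective.ne hij)]
  congr 1
  ring

/-- A chart carrying `a, b, c` to given indices. -/
theorem chart {i j k : Fin n} (hij : i ≠ j) (hik : i ≠ k) (hjk : j ≠ k) :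
    ∃ (g : SpecialLinearGroup (Fin n) F) (τ : Equiv.Perm (Fin n)) (w : Fin n → F), Mono g τ w ∧
      τ I.a = i ∧ τ I.b = j ∧ τ I.c = k ∧ w I.a = 1 ∧ w I.b = 1 ∧ w I.c = 1 := by
  obtain ⟨τ, h1, h2, h3⟩ := exists_perm3 I.hab I.hac I.hbc hij hik hjk
  obtain ⟨g, w, hg, hw⟩ := exists_monoP (F := F) τ I.d
  exact ⟨g, τ, w, hg, h1, h2, h3, hw _ I.had, hw _ I.hbd, hw _ I.hcd⟩

theorem Y_add {i j : Fin n} (hij : i ≠ j) (t u : F) : D.Y i j (t + u) = D.Y i j t * D.Y i j u := by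
  obtain ⟨k, hik, hjk⟩ := D.exists_third i j
  obtain ⟨g, τ, w, hg, rfl, rfl, -, wa, wb, -⟩ := chart (F := F) (I := I) hij hik hjk
  have e : ∀ r, D.Y (τ I.a) (τ I.b) r = D.A g * D.Z0 r * (D.A g)⁻¹ := fun r => by
    rw [← D.Y_ab, D.conj_Y hg I.hab, wa, wb, one_mul, one_mul]
  rw [e, e, e, D.add]; group

theorem conj_tx_fix {p q i j : Fin n} (hpq : p ≠ q) (hqi : q ≠ i) (hqj : q ≠ j) (s t : F) :
    Commute (D.A (tx p q s)) (D.Y i j t) := by
  refine mul_inv_eq_iff_eq_mul.1 ?_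
  rw [Y, D.conj_Z, tx_act hpq, tx_act hpq, Pi.single_eq_of_ne hqi, Pi.single_eq_of_ne hqj, mul_zero,
    Pi.single_zero, add_zero, add_zero]

theorem conj_tx_self {i j : Fin n} (hij : i ≠ j) (s t : F) :
    Commute (D.A (tx j i s)) (D.Y i j t) := by
  by_cases ht : t = 0
  · rw [ht, D.Y_zero]; exact Commute.one_right _
  refine mul_inv_eq_iff_eq_mul.1 ?_
  rw [Y, D.conj_Z, tx_act hij.symm, tx_act hij.symm, Pi.single_eq_same, Pi.single_eq_of_ne hij,
    mul_zero, Pi.single_zero, add_zero]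
  obtain ⟨g, g1, g2⟩ := D.exists_mono2 hij ht one_ne_zero
  have hM : (!![1, 0; s * t, 1] : Matrix (Fin 2) (Fin 2) F).det = 1 := by
    rw [Matrix.det_fin_two_of]; ring
  have := D.Z_sl2 g ⟨_, hM⟩
  rw [g1, g2] at this
  simp only [Matrix.of_apply, Matrix.cons_val', Matrix.cons_val_zero, Matrix.cons_val_one,
    Matrix.empty_val', Matrix.cons_val_fin_one, Pi.single_zero, zero_add] at this
  rw [Matrix.mulVec_add, g1, g2, mulVec_single' g I.b (s * t), g2, ← Pi.single_smul, smul_eq_mul,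
    mul_one] at this
  exact this

/-- The Steinberg relation of the two parts. -/
theorem rel (hb : ∀ s t, ⁅D.A (tx I.c I.b s), D.Z0 t⁆ = D.Y I.a I.c (s * t)) {i j p : Fin n}
    (hij : i ≠ j) (hip : i ≠ p) (hjp : j ≠ p) (s t : F) :
    ⁅D.A (tx p j s), D.Y i j t⁆ = D.Y i p (s * t) := by
  obtain ⟨g, τ, w, hg, rfl, rfl, rfl, wa, wb, wc⟩ := chart (F := F) (I := I) hij hip hjp
  have h := congrArg (MulAut.conj (D.A g)) (hb s t)
  rw [map_commutatorElement, MulAut.conj_apply, MulAut.conj_apply, MulAut.conj_apply, ← D.Y_ab,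
    D.conj_Y hg I.hab, D.conj_Y hg I.hac, ← map_inv, ← map_mul, ← map_mul,
    hg.conj_tx I.hbc.symm, wa, wb, wc, one_mul, div_one, one_mul, one_mul, one_mul] at h
  exact h

theorem Y_inv {i j : Fin n} (hij : i ≠ j) (t : F) : (D.Y i j t)⁻¹ = D.Y i j (-t) :=
  inv_eq_of_mul_eq_one_right (by rw [← D.Y_add hij, add_neg_cancel, D.Y_zero])

theorem Y_share (h1 : ∀ s t, Commute (D.Z0 s) (D.Y I.a I.c t)) {i j l : Fin n} (hij : i ≠ j)
    (hil : i ≠ l) (s t : F) : Commute (D.Y i j s) (D.Y i l t) := by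
  by_cases hjl : j = l
  · subst hjl
    show _ * _ = _ * _
    rw [← D.Y_add hij, ← D.Y_add hij, add_comm]
  obtain ⟨g, τ, w, hg, rfl, rfl, rfl, wa, wb, wc⟩ := chart (F := F) (I := I) hij hil hjl
  have := (h1 s t).map (MulAut.conj (D.A g)).toMonoidHom
  simp only [MulEquiv.coe_toMonoidHom, MulAut.conj_apply] at this
  rwa [← D.Y_ab, D.conj_Y hg I.hab, D.conj_Y hg I.hac, wa, wb, wc, one_mul, one_mul, one_mul] at this

/-- Two root elements commute. -/
theorem Y_comm (h1 : ∀ s t, Commute (D.Z0 s) (D.Y I.a I.c t))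
    (h2 : ∀ s t, Commute (D.Z0 s) (D.Y I.d I.c t)) {i j k l : Fin n} (hij : i ≠ j) (hkl : k ≠ l)
    (s t : F) : Commute (D.Y i j s) (D.Y k l t) := by
  by_cases hik : i = k
  · subst hik; exact D.Y_share h1 hij hkl s t
  by_cases hil : i = l
  · subst hil
    rw [D.Y_swap hkl.symm]; exact D.Y_share h1 hij hkl.symm s _
  by_cases hjk : j = k
  · subst hjk
    rw [D.Y_swap hij.symm]; exact D.Y_share h1 hij.symm hkl _ t
  by_cases hjl : j = l
  · subst hjl
    rw [D.Y_swap hij.symm, D.Y_swap hkl.symm]; exact D.Y_share h1 hij.symm hkl.symm _ _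
  obtain ⟨τ, ta, tb, tc, td⟩ := exists_perm4 I.hab I.hac I.hbc I.had I.hbd I.hcd hij hil hjl hik hjk
    hkl.symm
  obtain ⟨g, w, hg, -⟩ := exists_monoP (F := F) τ I.d
  have := (h2 (s / (w I.a * w I.b)) (t / (w I.d * w I.c))).map (MulAut.conj (D.A g)).toMonoidHom
  simp only [MulEquiv.coe_toMonoidHom, MulAut.conj_apply] at this
  rwa [← D.Y_ab, D.conj_Y hg I.hab, D.conj_Y hg I.hcd.symm, ta, tb, tc, td,
    mul_div_cancel₀ _ (mul_ne_zero (hg.1 _) (hg.1 _)),
    mul_div_cancel₀ _ (mul_ne_zero (hg.1 _) (hg.1 _))] at this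

end Layer

end Cfsg.Agent.OPlusPres
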