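import Cfsg.Agent.CurtisTitsD.Build
import Cfsg.Agent.OPlusPres.Gen
import Cfsg.Agent.OPlusPres.St.Kernel

/-!
# The extra element of order three of `Ω⁺(2n, F)`
-/

set_option autoImplicit false
set_option maxHeartbeats 800000
set_option linter.unusedSimpArgs false
set_option linter.unusedSectionVars false

open Matrix
open scoped MatrixGroups

namespace Cfsg.Agent.OPlusPres

open Chev.Ortho CurtisTitsD
open SLMult (tx)
open DMult (IsMonO wPerm wS hS dg crt Tor)

universe u

/-- Four distinguished indices, two of them the last two. -/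
structure Ix (n : ℕ) where
  /-- the branch index -/
  a : Fin n
  /-- the branch index -/
  b : Fin n
  /-- the neighbour of the branch indices -/
  c : Fin n
  /-- a fourth index -/
  d : Fin n
  ha : (a : ℕ) = n - 2
  hb : (b : ℕ) = n - 1
  hn : 4 ≤ n
  hac : a ≠ c
  hbc : b ≠ c
  had : a ≠ d
  hbd : b ≠ d
  hcd : c ≠ d

variable {F : Type u} [Field F] [Fintype F] {n : ℕ}

theorem Ix.hab (I : Ix n) : I.a ≠ I.b := fun e => by
  have := congrArg Fin.val e
  have := I.ha; have := I.hb; have := I.hn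
  omega

theorem Ix.three (I : Ix n) : 3 ≤ n := le_trans (by norm_num) I.hn

theorem lev_inl_inr {i j : Fin n} (h : i ≠ j) :
    lev (Sum.inl i : Fin n ⊕ Fin n) ≠ lev (Sum.inr j : Fin n ⊕ Fin n) := fun e => h (Fin.ext e)

theorem lev_ll {i j : Fin n} (h : i ≠ j) :
    lev (Sum.inl i : Fin n ⊕ Fin n) ≠ lev (Sum.inl j : Fin n ⊕ Fin n) := fun e => h (Fin.ext e)

theorem lev_rr {i j : Fin n} (h : i ≠ j) :
    lev (Sum.inr i : Fin n ⊕ Fin n) ≠ lev (Sum.inr j : Fin n ⊕ Fin n) := fun e => h (Fin.ext e)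

/-- The linear subgroup. -/
noncomputable def Lam (hn : 3 ≤ n) : SpecialLinearGroup (Fin n) F →* OG F n :=
  (exists_lin (F := F) (N := n) (m := n) hn Sum.inl fun _ _ h e => h (Fin.ext e)).choose

theorem Lam_tx (hn : 3 ≤ n) {i j : Fin n} (h : i ≠ j) (t : F) :
    Lam hn (tx i j t) = el (ok_of_lev (lev_inl_inr h)) t :=
  (exists_lin (F := F) (N := n) (m := n) hn Sum.inl fun _ _ h e => h (Fin.ext e)).choose_spec i j h t

theorem Lam_mem (hn : 3 ≤ n) (x : SpecialLinearGroup (Fin n) F) : Lam hn x ∈ commutator (OG F n) := by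
  have : (commutator (OG F n)).comap (Lam hn) = ⊤ :=
    Classical.sl_eq_top_of_transvection _ fun i j hij c => by
      rw [← SLMult.tx_eq hij]
      show Lam hn (tx i j c) ∈ commutator (OG F n)
      rw [Lam_tx hn hij]; exact el_mem_commutator hn _ c
  exact (this ▸ Subgroup.mem_top x : x ∈ (commutator (OG F n)).comap (Lam hn))

/-- The Weyl word of a root. -/
def we {p q : Fin n ⊕ Fin n} (h : lev p ≠ lev q) : OG F n :=
  el (ok_of_lev h) 1 * el (ok_of_lev (show lev (bar p) ≠ lev (bar q) by rwa [lev_bar, lev_bar])) 1 *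
    el (ok_of_lev h) 1

/-- The signs of a Weyl word. -/
def weC (p q : Fin n ⊕ Fin n) (x : Fin n ⊕ Fin n) : F := if x = p ∨ x = bar p then -1 else 1

theorem isMonO_we {p q : Fin n ⊕ Fin n} (h : lev p ≠ lev q) :
    IsMonO (we h : OG F n) (wPerm p q) (weC p q) := by
  have g1 : bar q ≠ p := fun e => h (by rw [← e, lev_bar])
  have g2 : bar p ≠ q := fun e => h (by rw [← e, lev_bar])
  have g3 : p ≠ q := fun e => h (by rw [e])
  have g4 : bar p ≠ bar q := fun e => g3 (bar_inj e)
  refine ⟨DMult.wPerm_bar h, fun i => ?_, fun i => funext fun r => ?_⟩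
  · simp only [weC, bar_bar]
    have e : (bar i = p ∨ bar i = bar p) ↔ (i = p ∨ i = bar p) :=
      ⟨fun h => h.elim (fun e => Or.inr (by rw [← e, bar_bar])) (fun e => Or.inl (bar_inj e)),
        fun h => h.elim (fun e => Or.inr (by rw [e])) (fun e => Or.inl (by rw [e, bar_bar]))⟩
    simp only [e]
    split_ifs <;> simp
  · simp only [we, weC, act_mul, el_apply, bar_bar, DMult.wPerm_apply h, Pi.single_apply]
    by_cases i1 : i = bar q
    · subst i1
      by_cases r1 : r = p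
      · subst r1; simp [g1, g1.symm, g2, g2.symm, g3, g3.symm, g4, g4.symm, bar_ne, (bar_ne _).symm]
      by_cases r2 : r = bar q
      · subst r2; simp [g1, g1.symm, g2, g2.symm, g3, g3.symm, g4, g4.symm, bar_ne, (bar_ne _).symm]
      simp [r1, r2, g1, g1.symm, g2, g2.symm, g3, g3.symm, g4, g4.symm, bar_ne, (bar_ne _).symm]
    by_cases i2 : i = p
    · subst i2
      by_cases r1 : r = i
      · subst r1; simp [g1, g1.symm, g2, g2.symm, g3, g3.symm, g4, g4.symm, bar_ne, (bar_ne _).symm]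
      by_cases r2 : r = bar q
      · subst r2; simp [g1, g1.symm, g2, g2.symm, g3, g3.symm, g4, g4.symm, bar_ne, (bar_ne _).symm]
      simp [r1, r2, g1, g1.symm, g2, g2.symm, g3, g3.symm, g4, g4.symm, bar_ne, (bar_ne _).symm]
    by_cases i3 : i = bar p
    · subst i3
      by_cases r1 : r = q
      · subst r1; simp [g1, g1.symm, g2, g2.symm, g3, g3.symm, g4, g4.symm, bar_ne, (bar_ne _).symm]
      by_cases r2 : r = bar p
      · subst r2; simp [g1, g1.symm, g2, g2.symm, g3, g3.symm, g4, g4.symm, bar_ne, (bar_ne _).symm]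
      simp [r1, r2, g1, g1.symm, g2, g2.symm, g3, g3.symm, g4, g4.symm, bar_ne, (bar_ne _).symm]
    by_cases i4 : i = q
    · subst i4
      by_cases r1 : r = i
      · subst r1; simp [g1, g1.symm, g2, g2.symm, g3, g3.symm, g4, g4.symm, bar_ne, (bar_ne _).symm]
      by_cases r2 : r = bar p
      · subst r2; simp [g1, g1.symm, g2, g2.symm, g3, g3.symm, g4, g4.symm, bar_ne, (bar_ne _).symm]
      simp [r1, r2, g1, g1.symm, g2, g2.symm, g3, g3.symm, g4, g4.symm, bar_ne, (bar_ne _).symm]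
    have k1 : p ≠ i := Ne.symm i2
    have k2 : bar q ≠ i := Ne.symm i1
    have k3 : bar p ≠ i := Ne.symm i3
    have k4 : q ≠ i := Ne.symm i4
    simp [i1, i2, i3, i4, k1, k2, k3, k4, g1, g1.symm, g2, g2.symm, g3, g3.symm, g4, g4.symm]

theorem we_eq_Lam (hn : 3 ≤ n) {i j : Fin n} (h : i ≠ j) :
    Lam hn (wS i j (1 : F)) = we (lev_inl_inr h) := by
  rw [wS, map_mul, map_mul, Lam_tx hn h, Lam_tx hn h.symm, inv_one,
    ← el_swap (ok_of_lev (lev_inl_inr h.symm))
      (ok_of_lev (show lev (bar (Sum.inl i : Fin n ⊕ Fin n)) ≠ lev (bar (Sum.inr j : Fin n ⊕ Fin n)) by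
        rw [lev_bar, lev_bar]; exact lev_inl_inr h))]
  rfl

variable (I : Ix n)

/-- The linear part of the extra element. -/
def PP : SpecialLinearGroup (Fin n) F := wS I.c I.a 1 * (wS I.c I.b 1 * wS I.c I.b 1)

/-- The linear element carried to the orthogonal part of the extra element. -/
def Wca : SpecialLinearGroup (Fin n) F := wS I.c I.a 1

/-- The branch Weyl element. -/
def W2 : OG F n := we (lev_ll I.hab)

/-- The extra element. -/
noncomputable def g0 : OG F n := Lam I.three (PP I) * W2 I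

/-- The permutation of the extra element. -/
def tau : Equiv.Perm (Fin n ⊕ Fin n) :=
  wPerm (Sum.inl I.c) (Sum.inr I.a) * (wPerm (Sum.inl I.c) (Sum.inr I.b) *
    wPerm (Sum.inl I.c) (Sum.inr I.b)) * wPerm (Sum.inl I.a) (Sum.inl I.b)

theorem tau_apply (x : Fin n ⊕ Fin n) :
    tau I x = if x = .inl I.c then .inl I.a else if x = .inl I.a then .inr I.b else
      if x = .inr I.b then .inl I.c else if x = .inr I.c then .inr I.a else
      if x = .inr I.a then .inl I.b else if x = .inl I.b then .inr I.c else x := by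
  have h1 := I.hac; have h2 := I.hbc; have h3 := I.hab
  rw [tau, DMult.wPerm_sq (lev_inl_inr I.hbc.symm), mul_one, Equiv.Perm.mul_apply,
    DMult.wPerm_apply (lev_ll I.hab), DMult.wPerm_apply (lev_inl_inr I.hac.symm)]
  rcases x with i | i <;>
    (by_cases e1 : i = I.a
     · subst e1; simp [bar, h1, h1.symm, h2, h2.symm, h3, h3.symm]
     by_cases e2 : i = I.b
     · subst e2; simp [bar, h1, h1.symm, h2, h2.symm, h3, h3.symm]
     by_cases e3 : i = I.c
     · subst e3; simp [bar, h1, h1.symm, h2, h2.symm, h3, h3.symm]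
     simp [bar, e1, e2, e3])

theorem isMonO_g0 : IsMonO (g0 I : OG F n) (tau I) fun _ => 1 := by
  have h := ((isMonO_we (F := F) (lev_inl_inr I.hac.symm)).mul ((isMonO_we (F := F)
    (lev_inl_inr I.hbc.symm)).mul (isMonO_we (F := F) (lev_inl_inr I.hbc.symm)))).mul
    (isMonO_we (F := F) (lev_ll I.hab))
  have e : (g0 I : OG F n) = we (lev_inl_inr I.hac.symm) * (we (lev_inl_inr I.hbc.symm) *
      we (lev_inl_inr I.hbc.symm)) * we (lev_ll I.hab) := by
    rw [g0, PP, map_mul, map_mul, we_eq_Lam _ I.hac.symm, we_eq_Lam _ I.hbc.symm]; rfl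
  rw [e]
  refine ⟨h.1, fun _ => one_mul 1, fun x => (h.2.2 x).trans ?_⟩
  congr 1
  have h1 := I.hac; have h2 := I.hbc; have h3 := I.hab
  simp only [Equiv.Perm.mul_apply, weC, DMult.wPerm_apply (lev_ll I.hab), DMult.wPerm_apply (lev_inl_inr I.hbc.symm)]
  rcases x with i | i <;>
    (by_cases e1 : i = I.a
     · subst e1; simp [bar, h1, h1.symm, h2, h2.symm, h3, h3.symm]
     by_cases e2 : i = I.b
     · subst e2; simp [bar, h1, h1.symm, h2, h2.symm, h3, h3.symm]
     by_cases e3 : i = I.c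
     · subst e3; simp [bar, h1, h1.symm, h2, h2.symm, h3, h3.symm]
     simp [bar, e1, e2, e3])

theorem tau_bar (x : Fin n ⊕ Fin n) : tau I (bar x) = bar (tau I x) :=
  (isMonO_g0 (F := ZMod 2) I).1 x

theorem g0_conj {p q : Fin n ⊕ Fin n} (h : Ok p q) {p' q' : Fin n ⊕ Fin n} (hp : tau I p = p')
    (hq : tau I q = q') (h' : Ok p' q') (t : F) : g0 I * el h t * (g0 I)⁻¹ = el h' t := by
  rw [(isMonO_g0 I).conj_el h, one_mul, one_mul]
  exact el_congr _ _ hp hq t

theorem tau_cube (x : Fin n ⊕ Fin n) : tau I (tau I (tau I x)) = x := by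
  have h1 := I.hac; have h2 := I.hbc; have h3 := I.hab
  simp only [tau_apply]
  rcases x with i | i <;>
    (by_cases e1 : i = I.a
     · subst e1; simp [h1, h1.symm, h2, h2.symm, h3, h3.symm]
     by_cases e2 : i = I.b
     · subst e2; simp [h1, h1.symm, h2, h2.symm, h3, h3.symm]
     by_cases e3 : i = I.c
     · subst e3; simp [h1, h1.symm, h2, h2.symm, h3, h3.symm]
     simp [e1, e2, e3])

theorem g0_cube : (g0 I : OG F n) ^ 3 = 1 := by
  refine ext_single fun x => ?_
  rw [pow_succ, pow_two, act_mul, act_mul, (isMonO_g0 I).2.2, (isMonO_g0 I).2.2, (isMonO_g0 I).2.2,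
    tau_cube, act_one]

theorem tau_vals :
    tau I (.inl I.c) = .inl I.a ∧ tau I (.inl I.a) = .inr I.b ∧ tau I (.inr I.b) = .inl I.c ∧
    tau I (.inr I.c) = .inr I.a ∧ tau I (.inr I.a) = .inl I.b ∧ tau I (.inl I.b) = .inr I.c ∧
    ∀ i, i ≠ I.a → i ≠ I.b → i ≠ I.c → tau I (.inl i) = .inl i ∧ tau I (.inr i) = .inr i := by
  have h1 := I.hac; have h2 := I.hbc; have h3 := I.hab
  refine ⟨?_, ?_, ?_, ?_, ?_, ?_, fun i e1 e2 e3 => ⟨?_, ?_⟩⟩ <;> rw [tau_apply] <;>
    simp [*, h1.symm, h2.symm, h3.symm]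

/-- The transported root. -/
theorem g0_conj_ca (t : F) :
    g0 I * Lam I.three (tx I.c I.a t) * (g0 I)⁻¹ = el (ok_of_lev (lev_ll I.hab)) t := by
  rw [Lam_tx _ I.hac.symm]
  exact g0_conj I _ (tau_vals I).1 (tau_vals I).2.2.2.2.1 _ t

theorem g0_Wca : g0 I * Lam I.three (Wca I) * (g0 I)⁻¹ = (W2 I : OG F n) := by
  have hh : lev (bar (Sum.inl I.c : Fin n ⊕ Fin n)) ≠ lev (bar (Sum.inr I.a : Fin n ⊕ Fin n)) := by
    rw [lev_bar, lev_bar]; exact lev_inl_inr I.hac.symm
  rw [Wca, we_eq_Lam _ I.hac.symm, we, W2, we]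
  have e1 := g0_conj (F := F) I (ok_of_lev (lev_inl_inr I.hac.symm)) (tau_vals I).1
    (tau_vals I).2.2.2.2.1 (ok_of_lev (lev_ll I.hab)) 1
  have e2 := g0_conj (F := F) I (ok_of_lev hh) (tau_vals I).2.2.2.1 (tau_vals I).2.1
    (ok_of_lev (lev_rr I.hab)) 1
  rw [← conj_mul, ← conj_mul, e1, e2]
  rfl

theorem root_comm {i j : Fin n} (hij : i ≠ j)
    (hiff : (i = I.a ∨ i = I.b) ↔ (j = I.a ∨ j = I.b)) (s t : F) :
    Commute (Lam I.three (tx i j s)) (el (ok_of_lev (lev_ll I.hab)) t) ∧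
      Commute (Lam I.three (tx i j s)) (el (ok_of_lev (lev_rr I.hab)) t) := by
  rw [Lam_tx _ hij]
  have h3 := I.hab
  by_cases hi : i = I.a ∨ i = I.b
  · have hj := hiff.1 hi
    rcases hi with rfl | rfl <;> rcases hj with rfl | rfl
    · exact absurd rfl hij
    · refine ⟨el_comm_opp _ _ s t, ?_⟩
      rw [el_swap (ok_of_lev (lev_inl_inr hij).symm) (ok_of_lev (lev_inl_inr hij)) s,
        el_swap (ok_of_lev (lev_rr hij.symm)) (ok_of_lev (lev_rr hij)) t]
      exact el_comm_opp _ _ _ _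
    · refine ⟨?_, ?_⟩
      · rw [el_swap (ok_of_lev (lev_ll hij)) (ok_of_lev (lev_ll hij.symm)) t]
        exact el_comm_opp _ _ s _
      · rw [el_swap (ok_of_lev (lev_inl_inr hij).symm) (ok_of_lev (lev_inl_inr hij)) s]
        exact el_comm_opp _ _ _ t
    · exact absurd rfl hij
  · have hj := fun h => hi (hiff.2 h)
    obtain ⟨i1, i2⟩ := not_or.1 hi
    obtain ⟨j1, j2⟩ := not_or.1 hj
    exact ⟨el_comm _ _ (by simp [bar, j1, j2]) (by simp [bar, j1, j2]) (by simp [bar, i1, i2])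
      (by simp [bar, i1, i2]) s t, el_comm _ _ (by simp [bar, j1, j2]) (by simp [bar, j1, j2])
      (by simp [bar, i1, i2]) (by simp [bar, i1, i2]) s t⟩

theorem Lam_commute_of_Msub (x : OG F n)
    (h : ∀ i j, i ≠ j → ((i = I.a ∨ i = I.b) ↔ (j = I.a ∨ j = I.b)) → ∀ s,
      Commute (Lam I.three (tx i j s)) x) {m : SpecialLinearGroup (Fin n) F}
    (hm : m ∈ Msub I.a I.b) : Commute (Lam I.three m) x := by
  refine Subgroup.mem_centralizer_singleton_iff.1 (?_ : m ∈ (Subgroup.centralizer {x}).comap (Lam I.three))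
  refine (Subgroup.closure_le _).2 ?_ hm
  rintro _ ⟨i, j, s, hij, hiff, rfl⟩
  exact Subgroup.mem_centralizer_singleton_iff.2 (h i j hij hiff s).eq

theorem g0_Msub {m : SpecialLinearGroup (Fin n) F} (hm : m ∈ Msub I.a I.b) :
    g0 I * Lam I.three m * (g0 I)⁻¹ = Lam I.three (PP I * m * (PP I)⁻¹) := by
  have hc : Commute (Lam I.three m) (W2 I : OG F n) := by
    refine Lam_commute_of_Msub I _ (fun i j hij hiff s => ?_) hm
    exact (((root_comm I hij hiff s 1).1.mul_right (root_comm I hij hiff s 1).2).mul_right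
      (root_comm I hij hiff s 1).1)
  rw [g0, map_mul, map_mul, map_inv]
  calc Lam I.three (PP I) * W2 I * Lam I.three m * (Lam I.three (PP I) * W2 I)⁻¹
      = Lam I.three (PP I) * (W2 I * Lam I.three m * (W2 I)⁻¹) * (Lam I.three (PP I))⁻¹ := by group
    _ = _ := by rw [← hc.eq, mul_inv_cancel_right]

theorem g0_mem : (g0 I : OG F n) ∈ commutator (OG F n) :=
  mul_mem (Lam_mem _ _) (mul_mem (mul_mem (el_mem_commutator I.three _ _)
    (el_mem_commutator I.three _ _)) (el_mem_commutator I.three _ _))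

end Cfsg.Agent.OPlusPres
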