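import Cfsg.Agent.OPlusPres.Derive
import Cfsg.Agent.ShortPres.GenPres
import Cfsg.Agent.DMult.Main

/-!
# Presentations of `Ω⁺(2n, F)` and `PΩ⁺(2n, F)` from one of `SL(n, F)`
-/

set_option autoImplicit false
set_option maxHeartbeats 800000
set_option linter.unusedSimpArgs false
set_option linter.unusedSectionVars false

open Matrix
open scoped MatrixGroups commutatorElement

namespace Cfsg.Agent.OPlusPres

open Chev.Ortho CurtisTitsD
open SLMult (tx)
open DMult (wS hS)
open Cfsg.Agent.ShortPres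

universe u

variable {F : Type u} [Field F] [Fintype F] {n : ℕ}

theorem wS_Msub_free {I : Ix n} {H : Type u} [Group H] (K : Dat F I H) (t : F) :
    K.cj (K.A (wS I.c I.a t)) =
      K.Z0 t * K.N0 t⁻¹ * K.Z0 t := by
  rw [wS, map_mul, map_mul, map_mul, map_mul]; rfl

namespace Dat

variable {I : Ix n} {H : Type u} [Group H] (K : Dat F I H)

/-- The word equal to the extra element in the group. -/
def xw : H := K.A (PP I) * (K.g * K.A (Wca I) * K.g⁻¹)

/-- The word of the possible central kernel element. -/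
def zw : H := K.A (hS I.a I.b (-1)) * (K.g * K.A (hS I.c I.a (-1)) * K.g⁻¹)

theorem A_mem_GX (m : SpecialLinearGroup (Fin n) F) : K.A m ∈ GX K.rels := by
  have : (GX K.rels).comap K.A = ⊤ :=
    Classical.sl_eq_top_of_transvection _ fun i j hij c => by
      rw [← SLMult.tx_eq hij]
      exact X_mem_GX K.rels (a := Sum.inl i) (b := Sum.inr j) (lev_inl_inr hij) c
  exact (this ▸ Subgroup.mem_top m : m ∈ (GX K.rels).comap K.A)

theorem Z0_mem_GX (t : F) : K.Z0 t ∈ GX K.rels := by
  rw [show K.Z0 t = K.rels.X (Sum.inl I.a) (Sum.inl I.b) t from (K.LD.Y_ab t).symm]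
  exact X_mem_GX K.rels (lev_ll I.hab) t

theorem N0_mem_GX (t : F) : K.N0 t ∈ GX K.rels := by
  rw [show K.N0 t = K.rels.X (Sum.inr I.a) (Sum.inr I.b) t from (K.LE.Y_ab t).symm]
  exact X_mem_GX K.rels (lev_rr I.hab) t

theorem cj_wS_mem (t : F) : K.cj (K.A (wS I.c I.a t)) ∈ GX K.rels := by
  rw [wS_Msub_free]
  exact mul_mem (mul_mem (K.Z0_mem_GX t) (K.N0_mem_GX _)) (K.Z0_mem_GX t)

theorem xw_mem : K.xw ∈ GX K.rels := mul_mem (K.A_mem_GX _) (K.cj_wS_mem 1)

theorem zw_mem : K.zw ∈ GX K.rels := by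
  refine mul_mem (K.A_mem_GX _) ?_
  show K.cj (K.A (hS I.c I.a (-1))) ∈ _
  rw [hS, map_mul, map_mul]
  exact mul_mem (K.cj_wS_mem _) (K.cj_wS_mem _)

theorem zw_eq : K.zw = zz K.rels := by
  have ea : iP K.rels = I.a := Fin.ext (by simp only [iP]; exact I.ha.symm)
  have eb : iQ K.rels = I.b := Fin.ext (by simp only [iQ]; exact I.hb.symm)
  have w1 : ∀ t : F, w K.rels (Sum.inl I.a) (Sum.inr I.b) t = K.A (wS I.a I.b t) := fun t => by
    show K.A (tx I.a I.b t) * K.LE.A (tx I.a I.b t⁻¹) * K.A (tx I.a I.b t) = _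
    rw [K.LE_A I.hab, wS, map_mul, map_mul]
  have w2 : ∀ t : F, w K.rels (Sum.inl I.a) (Sum.inl I.b) t = K.cj (K.A (wS I.c I.a t)) := fun t => by
    show K.LD.Y I.a I.b t * K.LE.Y I.a I.b t⁻¹ * K.LD.Y I.a I.b t = _
    rw [K.LD.Y_ab, K.LE.Y_ab, wS_Msub_free]; rfl
  rw [zz, ea, eb, OPlusPres.h, OPlusPres.h, w1, w2, ← map_mul, ← map_mul, ← map_mul]
  rfl

theorem σ_zw : K.σ K.zw = 1 := by rw [K.zw_eq]; exact σ_zz K.rels

theorem ker_cases {y : H} (hy : y ∈ GX K.rels) (h1 : K.σ y = 1) : y = 1 ∨ y = K.zw := by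
  rw [K.zw_eq]; exact GX_ker K.rels hy h1

theorem zw_comm {y : H} (hy : y ∈ GX K.rels) : Commute y K.zw := by
  rcases K.ker_cases (mul_mem (mul_mem hy K.zw_mem) (inv_mem hy))
    (by rw [map_mul, map_mul, K.σ_zw, mul_one, map_inv, mul_inv_cancel]) with h | h
  · have : K.zw = 1 := by
      have := congrArg (fun z => y⁻¹ * z * y) h
      simpa [mul_assoc] using this
    rw [this]; exact Commute.one_right _
  · exact mul_inv_eq_iff_eq_mul.1 h

theorem zw_sq : K.zw * K.zw = 1 := by rw [K.zw_eq]; exact zz_mul_self K.rels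

theorem σ_xw : K.σ K.xw = g0 I := by
  rw [xw, map_mul, map_mul, map_mul, map_inv, K.hA, K.hA, K.hg, g0_Wca]; rfl

theorem xw_cube {k : ℕ} (hk : K.g = K.xw * K.zw ^ k) : K.xw ^ 3 = K.zw ^ k := by
  have hc := (K.zw_comm K.xw_mem).pow_right k
  have h := K.cube
  rw [hk, hc.mul_pow] at h
  have h2 : K.zw ^ k * K.zw ^ k = 1 := by
    rw [← (Commute.refl K.zw).mul_pow, K.zw_sq, one_pow]
  calc K.xw ^ 3 = K.xw ^ 3 * (K.zw ^ k) ^ 3 * (K.zw ^ k * (K.zw ^ k * K.zw ^ k))⁻¹ := by
        rw [pow_three (K.zw ^ k), mul_inv_cancel_right]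
    _ = _ := by rw [h, h2, mul_one, one_mul, ← mul_right_inj (K.zw ^ k), mul_inv_cancel, h2]

theorem g_mem {k : ℕ} (hk : K.g = K.xw * K.zw ^ k) : K.g ∈ GX K.rels := by
  rw [hk]; exact mul_mem K.xw_mem (pow_mem K.zw_mem k)

/-- Two data over the same orthogonal group. -/
noncomputable def prod {H' : Type u} [Group H'] (K' : Dat F I H') : Dat F I (H × H') where
  σ := K.σ.comp (MonoidHom.fst H H')
  A := K.A.prod K'.A
  g := (K.g, K'.g)
  hA x := K.hA x
  hg := K.hg
  cube := Prod.ext K.cube K'.cube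
  conjM m hm := Prod.ext (K.conjM m hm) (K'.conjM m hm)
  commM m hm := Prod.ext (K.commM m hm).eq (K'.commM m hm).eq

end Dat

/-- A group satisfying the relations with a nontrivial kernel element. -/
def Bad (F : Type u) [Field F] [Fintype F] (I : Ix n) (k : ℕ) : Prop :=
  ∃ (H : Type u) (_ : Group H) (K : Dat F I H), K.g = K.xw * K.zw ^ k ∧ K.zw ≠ 1

/-- One of the two corrections leaves no kernel. -/
theorem exists_good (I : Ix n) : ∃ k : ℕ, ¬ Bad F I k := by
  by_contra hc
  push Not at hc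
  obtain ⟨H0, _, K0, e0, z0⟩ := hc 0
  obtain ⟨H1, _, K1, e1, z1⟩ := hc 1
  let P := K0.prod K1
  have hx : P.xw = (K0.xw, K1.xw) := rfl
  have hz : P.zw = (K0.zw, K1.zw) := rfl
  have h := P.ker_cases (pow_mem P.xw_mem 3) (by
    rw [map_pow, P.σ_xw, g0_cube])
  rw [hx, hz, Prod.pow_mk, K0.xw_cube e0, K1.xw_cube e1, pow_zero, pow_one] at h
  rcases h with h | h
  · exact z1 (congrArg Prod.snd h)
  · exact z0 (congrArg Prod.fst h).symm

theorem g0_zw (I : Ix n) : g0 I * Lam I.three (hS I.c I.a (-1)) * (g0 I)⁻¹ =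
    (Lam I.three (hS I.a I.b (-1)) : OG F n)⁻¹ := by
  let K : Dat F I (OG F n) :=
    { σ := MonoidHom.id _
      A := Lam I.three
      g := g0 I
      hA := fun _ => rfl
      hg := rfl
      cube := g0_cube I
      conjM := fun m hm => g0_Msub I hm
      commM := fun m hm => by
        rw [g0_conj_ca]
        exact Lam_commute_of_Msub I _ (fun i j hij hiff s => (root_comm I hij hiff s 1).1) hm }
  exact eq_inv_of_mul_eq_one_right K.σ_zw

/-- The center of `Ω⁺(2n, F)` is cyclic. -/
theorem center_cyclic (hn : 4 ≤ n) :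
    ∃ z : ↥(Cfsg.Omega F (Cfsg.quadFormPlus n F)),
      Subgroup.center ↥(Cfsg.Omega F (Cfsg.quadFormPlus n F)) = Subgroup.normalClosure {z} := by
  obtain ⟨c, hc⟩ : ∃ c, Nat.card (Subgroup.center ↥(Cfsg.Omega F (Cfsg.quadFormPlus n F))) = c ∧ c ≤ 2 := by
    obtain ⟨h1, h2⟩ := DMult.center_cards (F := F) hn
    by_cases h : (∃ g : Cfsg.isometryGroup F (Cfsg.quadFormPlus n F),
        g ∈ Cfsg.Omega F (Cfsg.quadFormPlus n F) ∧
        ((g : GL (Fin n ⊕ Fin n) F) : Matrix (Fin n ⊕ Fin n) (Fin n ⊕ Fin n) F) = -1) ∧ (2 : F) ≠ 0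
    · exact ⟨2, h1 h, le_rfl⟩
    · refine ⟨1, h2 ?_, by omega⟩
      by_cases h' : (2 : F) = 0
      · exact Or.inr h'
      · exact Or.inl fun e => h ⟨e, h'⟩
  set Z := Subgroup.center ↥(Cfsg.Omega F (Cfsg.quadFormPlus n F))
  obtain ⟨z, hzZ, hzgen⟩ : ∃ z ∈ Z, ∀ y ∈ Z, y = 1 ∨ y = z := by
    rcases (show c = 0 ∨ c = 1 ∨ c = 2 by omega) with rfl | rfl | rfl
    · exact absurd hc.1 Nat.card_pos.ne'
    · refine ⟨1, one_mem _, fun y hy => Or.inl ?_⟩
      have := (Nat.card_eq_one_iff_unique.1 hc.1).1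
      exact congrArg Subtype.val (Subsingleton.elim (⟨y, hy⟩ : Z) 1)
    · obtain ⟨a, b, hab, huniv⟩ := Nat.card_eq_two_iff.1 hc.1
      have key : ∀ w : Z, w = a ∨ w = b := fun w => by
        have := huniv.ge (Set.mem_univ w)
        simpa using this
      rcases key 1 with h | h
      · exact ⟨b, b.2, fun y hy => (key ⟨y, hy⟩).imp (fun e => by rw [← h] at e; exact congrArg Subtype.val e)
          fun e => congrArg Subtype.val e⟩
      · exact ⟨a, a.2, fun y hy => (key ⟨y, hy⟩).symm.imp (fun e => by rw [← h] at e; exact congrArg Subtype.val e)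
          fun e => congrArg Subtype.val e⟩
  refine ⟨z, le_antisymm (fun y hy => ?_) (Subgroup.normalClosure_le_normal (by simpa using hzZ))⟩
  rcases hzgen y hy with rfl | rfl
  · exact one_mem _
  · exact Subgroup.subset_normalClosure rfl

variable (F)

/-- The free product carrying the relations. -/
abbrev Free1 (n : ℕ) : Type u := Monoid.Coprod (SpecialLinearGroup (Fin n) F) (FreeGroup (Fin 1))

variable {F}

/-- The extra generator. -/
def gen1 : Free1 F n := Monoid.Coprod.inr (FreeGroup.of 0)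

/-- The defining relations. -/
noncomputable def relSet (I : Ix n) (p q : SpecialLinearGroup (Fin n) F) (k : ℕ) : Finset (Free1 F n) := by
  classical
  let A : SpecialLinearGroup (Fin n) F →* Free1 F n := Monoid.Coprod.inl
  let g : Free1 F n := gen1
  exact {g * A p * g⁻¹ * (A (PP I * p * (PP I)⁻¹))⁻¹, g * A q * g⁻¹ * (A (PP I * q * (PP I)⁻¹))⁻¹,
    ⁅A p, g * A (tx I.c I.a 1) * g⁻¹⁆, ⁅A q, g * A (tx I.c I.a 1) * g⁻¹⁆, g ^ 3,
    g⁻¹ * (A (PP I) * (g * A (Wca I) * g⁻¹) *
      (A (hS I.a I.b (-1)) * (g * A (hS I.c I.a (-1)) * g⁻¹)) ^ k)}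

theorem card_relSet (I : Ix n) (p q : SpecialLinearGroup (Fin n) F) (k : ℕ) :
    (relSet I p q k).card ≤ 6 := by
  classical
  exact Finset.card_le_six

/-- The projection of the free product. -/
noncomputable def proj (I : Ix n) : Free1 F n →* OG F n :=
  Monoid.Coprod.lift (Lam I.three) (FreeGroup.lift fun _ => g0 I)

theorem proj_A (I : Ix n) (x : SpecialLinearGroup (Fin n) F) :
    proj I (Monoid.Coprod.inl x) = Lam I.three x := Monoid.Coprod.lift_apply_inl _ _ _

theorem proj_g (I : Ix n) : proj I (gen1 : Free1 F n) = g0 I := by simp [proj, gen1]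

theorem proj_mem (I : Ix n) (x : Free1 F n) : proj I x ∈ commutator (OG F n) := by
  induction x using Monoid.Coprod.induction_on with
  | inl a => rw [proj_A]; exact Lam_mem _ _
  | inr b =>
    induction b using FreeGroup.induction_on with
    | C1 => simp
    | of i =>
      rw [Subsingleton.elim i 0]
      show proj I gen1 ∈ _
      rw [proj_g]; exact g0_mem I
    | inv_of i h => rw [map_inv, map_inv]; exact inv_mem h
    | mul a b ha hb => rw [map_mul, map_mul]; exact mul_mem ha hb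
  | mul a b ha hb => rw [map_mul]; exact mul_mem ha hb

theorem proj_rel (I : Ix n) {p q : SpecialLinearGroup (Fin n) F}
    (hpq : Subgroup.closure ({p, q} : Set (SpecialLinearGroup (Fin n) F)) = Msub I.a I.b) (k : ℕ) :
    ∀ x ∈ relSet I p q k, proj I x = 1 := by
  intro x hx
  have hp : p ∈ Msub I.a I.b := hpq ▸ Subgroup.subset_closure (Set.mem_insert _ _)
  have hq : q ∈ Msub I.a I.b := hpq ▸ Subgroup.subset_closure (Set.mem_insert_of_mem _ (Set.mem_singleton _))
  have hconj : ∀ m ∈ Msub I.a I.b, proj I (gen1 * Monoid.Coprod.inl m * gen1⁻¹ *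
      (Monoid.Coprod.inl (PP I * m * (PP I)⁻¹))⁻¹ : Free1 F n) = 1 := fun m hm => by
    simp only [map_mul, map_inv, proj_A, proj_g]
    rw [g0_Msub I hm, map_mul, map_mul, map_inv, mul_inv_cancel]
  have hcomm : ∀ m ∈ Msub (F := F) I.a I.b, proj (F := F) I
      ⁅(Monoid.Coprod.inl m : Free1 F n), gen1 * Monoid.Coprod.inl (tx I.c I.a 1) * gen1⁻¹⁆ = 1 :=
    fun m hm => by
      rw [map_commutatorElement, map_mul, map_mul, map_inv, proj_A, proj_A, proj_g, g0_conj_ca,
        commutatorElement_eq_one_iff_commute]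
      exact Lam_commute_of_Msub I _ (fun i j hij hiff s => (root_comm I hij hiff s 1).1) hm
  simp only [relSet, Finset.mem_insert, Finset.mem_singleton] at hx
  rcases hx with rfl | rfl | rfl | rfl | rfl | rfl
  · exact hconj p hp
  · exact hconj q hq
  · exact hcomm p hp
  · exact hcomm q hq
  · rw [map_pow, proj_g, g0_cube]
  · have hz : g0 I * Lam I.three (hS I.c I.a (-1)) * (g0 I)⁻¹ =
        (Lam I.three (hS I.a I.b (-1)) : OG F n)⁻¹ := by
      exact g0_zw I
    simp only [map_mul, map_inv, map_pow, proj_A, proj_g]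
    rw [g0_Wca, hz, mul_inv_cancel, one_pow, mul_one, show Lam I.three (PP I) * W2 I = g0 I from rfl,
      inv_mul_cancel]

/-- The data of a quotient satisfying the relations. -/
noncomputable def quotDat (I : Ix n) {p q : SpecialLinearGroup (Fin n) F}
    (hpq : Subgroup.closure ({p, q} : Set (SpecialLinearGroup (Fin n) F)) = Msub I.a I.b) (k : ℕ) :
    Dat F I (Free1 F n ⧸ Subgroup.normalClosure (relSet I p q k : Set (Free1 F n))) where
  σ := QuotientGroup.lift _ (proj I) (Subgroup.normalClosure_le_normal fun x hx =>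
    proj_rel I hpq k x hx)
  A := (QuotientGroup.mk' _).comp Monoid.Coprod.inl
  g := QuotientGroup.mk' _ gen1
  hA x := by
    show proj I (Monoid.Coprod.inl x) = _
    rw [proj_A]
  hg := proj_g I
  cube := by
    rw [← map_pow]
    exact (QuotientGroup.eq_one_iff _).2 (Subgroup.subset_normalClosure (by simp [relSet]))
  conjM m hm := by
    let N := Subgroup.normalClosure (relSet I p q k : Set (Free1 F n))
    let a : SpecialLinearGroup (Fin n) F →* Free1 F n ⧸ N := (QuotientGroup.mk' N).comp Monoid.Coprod.inl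
    let f1 : SpecialLinearGroup (Fin n) F →* Free1 F n ⧸ N :=
      (MulAut.conj (QuotientGroup.mk' N gen1)).toMonoidHom.comp a
    let f2 : SpecialLinearGroup (Fin n) F →* Free1 F n ⧸ N :=
      a.comp (MulAut.conj (PP I)).toMonoidHom
    have h : ∀ x ∈ ({p, q} : Set (SpecialLinearGroup (Fin n) F)), f1 x = f2 x := by
      intro x hx
      have hm : gen1 * Monoid.Coprod.inl x * gen1⁻¹ *
          (Monoid.Coprod.inl (PP I * x * (PP I)⁻¹))⁻¹ ∈ N :=
        Subgroup.subset_normalClosure (by rcases hx with rfl | rfl <;> simp [relSet])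
      have := (QuotientGroup.eq_one_iff _).2 hm
      simp only [QuotientGroup.mk_mul, QuotientGroup.mk_inv, mul_inv_eq_one] at this
      exact this
    exact MonoidHom.eqOn_closure h (hpq ▸ hm)
  commM m hm := by
    let N := Subgroup.normalClosure (relSet I p q k : Set (Free1 F n))
    let a : SpecialLinearGroup (Fin n) F →* Free1 F n ⧸ N := (QuotientGroup.mk' N).comp Monoid.Coprod.inl
    let z : Free1 F n ⧸ N := QuotientGroup.mk' N gen1 * a (tx I.c I.a 1) * (QuotientGroup.mk' N gen1)⁻¹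
    refine Subgroup.mem_centralizer_singleton_iff.1 (?_ : m ∈ (Subgroup.centralizer {z}).comap a)
    refine (Subgroup.closure_le _).2 ?_ (hpq ▸ hm)
    intro x hx
    refine Subgroup.mem_centralizer_singleton_iff.2 ?_
    have hm : ⁅(Monoid.Coprod.inl x : Free1 F n), gen1 * Monoid.Coprod.inl (tx I.c I.a 1) * gen1⁻¹⁆ ∈ N :=
      Subgroup.subset_normalClosure (by rcases hx with rfl | rfl <;> simp [relSet])
    have := (QuotientGroup.eq_one_iff _).2 hm
    rw [← QuotientGroup.mk'_apply, map_commutatorElement, commutatorElement_eq_one_iff_commute] at this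
    simpa [z, a] using this.eq

/-- `Ω⁺(2n, F)` and `PΩ⁺(2n, F)` from a presentation of `SL(n, F)`. -/
theorem oplus_presK {m k r : ℕ} (hm : 2 ≤ m) (h : PresK (SpecialLinearGroup (Fin (m + 2)) F) k r) :
    PresK (↥(Cfsg.Omega F (Cfsg.quadFormPlus (m + 2) F))) (k + 1) (r + 6) ∧
      PresK (Cfsg.POmega F (Cfsg.quadFormPlus (m + 2) F)) (k + 1) (r + 7) := by
  classical
  let I : Ix (m + 2) :=
    { a := Fin.natAdd m (0 : Fin 2)
      b := Fin.natAdd m (1 : Fin 2)
      c := ⟨m - 1, by omega⟩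
      d := ⟨0, by omega⟩
      ha := by simp
      hb := by simp
      hn := by omega
      hac := Fin.ne_of_val_ne (by simp; omega)
      hbc := Fin.ne_of_val_ne (by simp; omega)
      had := Fin.ne_of_val_ne (by simp; omega)
      hbd := Fin.ne_of_val_ne (by simp)
      hcd := Fin.ne_of_val_ne (by simp; omega) }
  obtain ⟨p, q, hpq⟩ := Msub_pair (F := F) hm
  obtain ⟨e, he⟩ := exists_good (F := F) I
  let K := quotDat (F := F) I (p := p) (q := q) hpq e
  let N := Subgroup.normalClosure (relSet I p q e : Set (Free1 F (m + 2)))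
  have hkg : K.g = K.xw * K.zw ^ e := by
    have := (QuotientGroup.eq_one_iff _).2 (Subgroup.subset_normalClosure (s := (relSet I p q e : Set
      (Free1 F (m + 2)))) (show gen1⁻¹ * (Monoid.Coprod.inl (PP I) * (gen1 * Monoid.Coprod.inl (Wca I) *
        gen1⁻¹) * (Monoid.Coprod.inl (hS I.a I.b (-1)) * (gen1 * Monoid.Coprod.inl (hS I.c I.a (-1)) *
        gen1⁻¹)) ^ e) ∈ (relSet I p q e : Set (Free1 F (m + 2))) by simp [relSet]))
    rw [QuotientGroup.mk_mul, QuotientGroup.mk_inv, inv_mul_eq_one] at this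
    exact this
  have hz : K.zw = 1 := by
    by_contra hne
    exact he ⟨_, inferInstance, K, hkg, hne⟩
  have htop : ∀ x : Free1 F (m + 2), (QuotientGroup.mk' N x) ∈ GX K.rels := by
    intro x
    induction x using Monoid.Coprod.induction_on with
    | inl a => exact K.A_mem_GX a
    | inr b =>
      induction b using FreeGroup.induction_on with
      | C1 => rw [map_one, map_one]; exact one_mem _
      | of i => rw [Subsingleton.elim i 0]; exact K.g_mem hkg
      | inv_of i h => rw [map_inv, map_inv]; exact inv_mem h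
      | mul a b ha hb => rw [map_mul, map_mul]; exact mul_mem ha hb
    | mul a b ha hb => rw [map_mul]; exact mul_mem ha hb
  let Φ : Free1 F (m + 2) →* ↥(Cfsg.Omega F (Cfsg.quadFormPlus (m + 2) F)) :=
    (proj I).codRestrict _ (proj_mem I)
  have hΦ : Function.Surjective Φ := by
    rintro ⟨y, hy⟩
    have hy' : y ∈ commutator (OG F (m + 2)) := hy
    rw [commutator_eq (show 3 ≤ m + 2 by omega)] at hy'
    have hle : Chev.Ortho.E F (m + 2) 0 ≤ (proj I).range := by
      rw [Chev.Ortho.E, Subgroup.closure_le]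
      rintro _ ⟨a, b, hab, t, -, -, rfl⟩
      obtain ⟨x, hx⟩ := QuotientGroup.mk'_surjective N (K.rels.X a b t)
      refine ⟨x, ?_⟩
      have := K.rels.hσ hab t
      rw [← hx] at this
      exact this
    obtain ⟨x, hx⟩ := hle hy'
    exact ⟨x, Subtype.ext hx⟩
  have hker : ∀ x, Φ x = 1 → x ∈ N := fun x hx => by
    refine (QuotientGroup.eq_one_iff x).1 ?_
    rcases K.ker_cases (htop x) (congrArg Subtype.val hx) with h | h
    · exact h
    · exact h.trans hz
  have h1 : PresK (↥(Cfsg.Omega F (Cfsg.quadFormPlus (m + 2) F))) (k + 1) (r + 6) :=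
    ((h.coprod (presK_free 1)).of_universal Φ hΦ (relSet I p q e)
      (fun x hx => Subtype.ext (proj_rel I hpq e x hx)) hker).mono
      (by have := card_relSet I p q e; omega)
  refine ⟨h1, ?_⟩
  obtain ⟨z, hz'⟩ := center_cyclic (F := F) (n := m + 2) (by omega)
  refine (h1.of_universal (QuotientGroup.mk' _)
    (QuotientGroup.mk'_surjective _) {z} (fun x hx => ?_) fun x hx => ?_).mono (by simp)
  · rw [Finset.mem_singleton] at hx
    exact (QuotientGroup.eq_one_iff _).mpr (hz' ▸ hx ▸ Subgroup.subset_normalClosure rfl)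
  · rw [Finset.coe_singleton, ← hz']
    exact (QuotientGroup.eq_one_iff x).mp hx

/-- The presented forms with eight generators. -/
theorem oplus_presented {m k r : ℕ} (hm : 2 ≤ m) (h : PresK (SpecialLinearGroup (Fin (m + 2)) F) k r)
    {R : ℕ} (hk : k + 1 ≤ 8) (hR : r + 6 + (8 - (k + 1)) ≤ R) :
    (∃ rels : Finset (FreeGroup (Fin 8)), rels.card ≤ R ∧
      Nonempty (PresentedGroup (↑rels : Set (FreeGroup (Fin 8))) ≃*
        ↥(Cfsg.Omega F (Cfsg.quadFormPlus (m + 2) F)))) ∧
    (∃ rels : Finset (FreeGroup (Fin 8)), rels.card ≤ R + 1 ∧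
      Nonempty (PresentedGroup (↑rels : Set (FreeGroup (Fin 8))) ≃*
        Cfsg.POmega F (Cfsg.quadFormPlus (m + 2) F))) := by
  obtain ⟨h1, h2⟩ := oplus_presK hm h
  exact ⟨(h1.enlarge hk hR).presented, (h2.enlarge hk (by omega)).presented⟩

end Cfsg.Agent.OPlusPres
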